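import Cfsg.Agent.Transitivity.SolvableAmbient
import Cfsg.Agent.Balance.Core

/-!
# Signalizer functors from `k`-balance

For `A` elementary abelian, `kFix p A F` is generated by the `Δ(B) ⊓ C(B)` over the subgroups `B`
of index at most `p` of `A` which contain `F`.
-/

namespace CfsgLib.Transitivity

open Subgroup

variable {G : Type*} [Group G] {p k : ℕ} {A : Subgroup G}

/-- The subgroup generated by `Δ(B) ⊓ C(B)` over the `B ≤ A` of index at most `p` containing `F`. -/
def kFix (p : ℕ) (A F : Subgroup G) : Subgroup G :=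
  ⨆ B : {B : Subgroup G // B ≤ A ∧ Nat.card A ≤ p * Nat.card B ∧ F ≤ B},
    Cfsg.signalizerDelta p (B : Subgroup G) ⊓ centralizer ((B : Subgroup G) : Set G)

theorem mem_signalizerDelta {D : Subgroup G} {x : G} :
    x ∈ Cfsg.signalizerDelta p D ↔ ∀ d ∈ D, d ≠ 1 → x ∈ Cfsg.centralizerPPrimeCore p d := by
  simp only [Cfsg.signalizerDelta, mem_iInf, Subtype.forall, and_imp]

theorem signalizerDelta_anti {D E : Subgroup G} (h : D ≤ E) :
    Cfsg.signalizerDelta p E ≤ Cfsg.signalizerDelta p D := fun _ hx =>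
  mem_signalizerDelta.mpr fun d hd hd1 => mem_signalizerDelta.mp hx d (h hd) hd1

theorem centralizer_inf_le_centralizer_sup (F E : Subgroup G) :
    centralizer (F : Set G) ⊓ centralizer (E : Set G) ≤ centralizer ((F ⊔ E : Subgroup G) : Set G) :=
  le_centralizer_iff.mp (sup_le (le_centralizer_iff.mp inf_le_left)
    (le_centralizer_iff.mp inf_le_right))

theorem elab_of_le_of_elab (hA : Cfsg.IsElementaryAbelian p A) {B : Subgroup G} (hB : B ≤ A) :
    Cfsg.IsElementaryAbelian p B :=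
  ⟨⟨⟨fun a b => Subtype.ext (congrArg Subtype.val
    (hA.1.is_comm.comm (⟨a, hB a.2⟩ : A) ⟨b, hB b.2⟩) :)⟩⟩, fun b hb => hA.2 b (hB hb)⟩

theorem le_centralizer_of_elab (hA : Cfsg.IsElementaryAbelian p A) {B : Subgroup G} (hB : B ≤ A) :
    A ≤ centralizer (B : Set G) :=
  (le_centralizer_iff_isMulCommutative.mpr hA.1).trans
    (centralizer_le (SetLike.coe_subset_coe.mpr hB))

theorem le_normalizer_delta (hA : Cfsg.IsElementaryAbelian p A) {B : Subgroup G} (hB : B ≤ A) :
    A ≤ normalizer (Cfsg.signalizerDelta p B : Set G) := by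
  refine le_normalizer_of_forall_conj fun c hc x hx => mem_signalizerDelta.mpr fun d hd hd1 => ?_
  exact CfsgLib.Balance.coreIn_conj_mem
    (centralizer_le (Set.singleton_subset_iff.mpr (hB hd))
      (le_centralizer_of_elab hA le_rfl hc)) (mem_signalizerDelta.mp hx d hd hd1)

theorem le_normalizer_delta_inf (hA : Cfsg.IsElementaryAbelian p A) {B F : Subgroup G}
    (hB : B ≤ A) (hF : F ≤ A) :
    A ≤ normalizer ((Cfsg.signalizerDelta p B ⊓ centralizer (F : Set G) : Subgroup G) : Set G) :=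
  (le_inf (le_normalizer_delta hA hB) ((le_centralizer_of_elab hA hF).trans le_normalizer)).trans
    inf_normalizer_le_normalizer_inf

theorem le_normalizer_kFix (hA : Cfsg.IsElementaryAbelian p A) (F : Subgroup G) :
    A ≤ normalizer (kFix p A F : Set G) := by
  intro b hb
  rw [mem_normalizer_iff_map_conj_eq, kFix, Subgroup.map_iSup]
  exact iSup_congr fun B =>
    mem_normalizer_iff_map_conj_eq.mp (le_normalizer_delta_inf hA B.2.1 B.2.1 hb)

theorem kFix_anti {F F' : Subgroup G} (h : F ≤ F') : kFix p A F' ≤ kFix p A F :=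
  iSup_le fun B => le_iSup (fun B : {B : Subgroup G // B ≤ A ∧ Nat.card A ≤ p * Nat.card B ∧ F ≤ B} =>
    Cfsg.signalizerDelta p (B : Subgroup G) ⊓ centralizer ((B : Subgroup G) : Set G))
    ⟨B, B.2.1, B.2.2.1, h.trans B.2.2.2⟩

theorem kFix_le_centralizer (F : Subgroup G) : kFix p A F ≤ centralizer (F : Set G) :=
  iSup_le fun B => inf_le_right.trans (centralizer_le (SetLike.coe_subset_coe.mpr B.2.2.2))

theorem kFix_le_core {F : Subgroup G} {a : G} (ha : a ∈ F) (ha1 : a ≠ 1) :
    kFix p A F ≤ Cfsg.centralizerPPrimeCore p a :=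
  iSup_le fun B _ hx => mem_signalizerDelta.mp hx.1 a (B.2.2.2 ha) ha1

theorem not_dvd_centralizerPPrimeCore [Finite G] [Fact p.Prime] (a : G) :
    ¬ p ∣ Nat.card ↥(Cfsg.centralizerPPrimeCore p a) :=
  (Fact.out : p.Prime).coprime_iff_not_dvd.mp
    (CfsgLib.Balance.coprime_coreIn (centralizer ({a} : Set G))).symm

variable [Finite G] [Fact p.Prime]

omit [Finite G] in
theorem delta_inf_centralizer_le (hbal : Cfsg.IsKBalanced p k G)
    (hA : Cfsg.IsElementaryAbelian p A) {D B : Subgroup G} (hD : D ≤ A) (hDk : Nat.card D = p ^ k)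
    (hB : B ≤ A) :
    Cfsg.signalizerDelta p D ⊓ centralizer (B : Set G) ≤ Cfsg.signalizerDelta p B := by
  intro x hx
  rw [mem_signalizerDelta]
  intro b hb hb1
  exact hbal D (elab_of_le_of_elab hA hD) hDk b (orderOf_eq_prime (hA.2 b (hB hb)) hb1)
    (fun d hd => (mem_centralizer_iff.mp (le_centralizer_of_elab hA hD (hB hb)) d hd))
    ⟨hx.1, centralizer_le (Set.singleton_subset_iff.mpr hb) hx.2⟩

theorem delta_inf_centralizer_le_kFix (hk : 1 ≤ k) (hbal : Cfsg.IsKBalanced p k G)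
    (hA : Cfsg.IsElementaryAbelian p A) {D F : Subgroup G} (hD : D ≤ A) (hDk : Nat.card D = p ^ k)
    (hF : F ≤ A) :
    Cfsg.signalizerDelta p D ⊓ centralizer (F : Set G) ≤ kFix p A F := by
  obtain ⟨d, hd, hd1⟩ : ∃ d ∈ D, d ≠ 1 := by
    by_contra! h
    rw [(eq_bot_iff_forall D).mpr h, Subgroup.card_bot] at hDk
    exact absurd hDk.symm (Nat.one_lt_pow (by omega) (Fact.out : p.Prime).one_lt).ne'
  refine le_of_forall_hyperplane hA (le_normalizer_delta_inf hA hD hF)
    (fun h => not_dvd_centralizerPPrimeCore d (h.trans (card_dvd_of_le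
      fun x hx => mem_signalizerDelta.mp (mem_inf.mp hx).1 d hd hd1))) fun B hB hc => ?_
  refine le_trans ?_ (le_iSup
    (fun B : {B : Subgroup G // B ≤ A ∧ Nat.card A ≤ p * Nat.card B ∧ F ≤ B} =>
      Cfsg.signalizerDelta p (B : Subgroup G) ⊓ centralizer ((B : Subgroup G) : Set G))
    ⟨B ⊔ F, sup_le hB hF, hc.trans (Nat.mul_le_mul_left p
      (Nat.le_of_dvd Nat.card_pos (card_dvd_of_le le_sup_left))), le_sup_right⟩)
  have hC : Cfsg.signalizerDelta p D ⊓ centralizer (F : Set G) ⊓ centralizer (B : Set G) ≤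
      centralizer ((B ⊔ F : Subgroup G) : Set G) :=
    (le_inf inf_le_right (inf_le_left.trans inf_le_right)).trans
      (centralizer_inf_le_centralizer_sup B F)
  exact le_inf ((le_inf (inf_le_left.trans inf_le_left) hC).trans
    (delta_inf_centralizer_le hbal hA hD hDk (sup_le hB hF))) hC

theorem exists_le_card_eq (hA : Cfsg.IsElementaryAbelian p A) {B : Subgroup G} (hB : B ≤ A)
    (hle : p ^ k ≤ Nat.card B) : ∃ D, D ≤ B ∧ Nat.card D = p ^ k := by
  obtain ⟨m, hm⟩ := (isPGroup_of_elab (elab_of_le_of_elab hA hB)).exists_card_eq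
  have hkm : k ≤ m := (Nat.pow_le_pow_iff_right (Fact.out : p.Prime).one_lt).mp (hm ▸ hle)
  obtain ⟨D, hD⟩ := Sylow.exists_subgroup_card_pow_prime (G := B) p (hm ▸ pow_dvd_pow p hkm)
  exact ⟨D.map B.subtype, map_subtype_le _, (card_map_of_injective B.subtype_injective).trans hD⟩

theorem exists_complement (hA : Cfsg.IsElementaryAbelian p A) {F : Subgroup G} (hF : F ≤ A) :
    ∃ E, E ≤ A ∧ F ⊓ E = ⊥ ∧ F ⊔ E = A ∧ Nat.card A = Nat.card F * Nat.card E := by
  obtain ⟨E, hE⟩ := (Set.toFinite {E : Subgroup G | E ≤ A ∧ F ⊓ E = ⊥}).exists_maximal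
    ⟨⊥, bot_le, inf_bot_eq _⟩
  obtain ⟨hEA, hFE⟩ := hE.1
  have hn : ∀ {X Y : Subgroup G}, X ≤ A → Y ≤ A → Y ≤ normalizer (X : Set G) := fun hX hY =>
    (hY.trans (le_centralizer_of_elab hA hX)).trans (centralizer_le_normalizer _)
  have hsup : F ⊔ E = A := by
    refine le_antisymm (sup_le hF hEA) fun a ha => ?_
    by_contra hne
    refine hne (mem_sup_right ((hE.2 (y := E ⊔ zpowers a) ⟨sup_le hEA (zpowers_le.mpr ha), ?_⟩
      le_sup_left) (mem_sup_right (mem_zpowers a))))
    rw [eq_bot_iff]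
    rintro x ⟨hxF, hxE⟩
    obtain ⟨e, he, v, hv, rfl⟩ :=
      CfsgLib.Coprime.exists_mul_of_mem_sup (hn hEA (zpowers_le.mpr ha)) hxE
    by_cases hv1 : v = 1
    · subst hv1
      rw [mul_one] at hxF ⊢
      exact hFE.le ⟨hxF, he⟩
    · have hvm : v ∈ F ⊔ E := by
        have := mul_mem (inv_mem (mem_sup_right (S := F) he)) (mem_sup_left (T := E) hxF)
        rwa [inv_mul_cancel_left] at this
      exact absurd (zpowers_le.mpr hvm (mem_zpowers_of_ne_one (hA.2 a ha) hv hv1)) hne
  refine ⟨E, hEA, hFE, hsup, ?_⟩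
  rw [← hsup, CfsgLib.Coprime.card_sup_eq (hn hF hEA) hFE]

theorem kFix_inf_centralizer_le (hk : 1 ≤ k) (hbal : Cfsg.IsKBalanced p k G)
    (hA : Cfsg.IsElementaryAbelian p A) (hAk : p ^ (k + 2) ≤ Nat.card A)
    (hsolv : ∀ a ∈ A, a ≠ 1 → Group.IsSolvable ↥(Cfsg.centralizerPPrimeCore p a))
    {F F' : Subgroup G} (hFne : F ≠ ⊥) (hFF : F ≤ F') (hF' : F' ≤ A) :
    kFix p A F ⊓ centralizer (F' : Set G) ≤ kFix p A F' := by
  induction hn : Nat.card A - Nat.card F using Nat.strongRecOn generalizing F F' with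
  | ind n ih =>
    have hFA : F ≤ A := hFF.trans hF'
    by_cases hFk : p ^ k ≤ Nat.card F
    · obtain ⟨D, hDF, hDk⟩ := exists_le_card_eq hA hFA hFk
      exact le_trans (inf_le_inf_right _ (iSup_le fun B =>
        inf_le_left.trans (signalizerDelta_anti (hDF.trans B.2.2.2))))
        (delta_inf_centralizer_le_kFix hk hbal hA (hDF.trans hFA) hDk hF')
    rw [not_le] at hFk
    obtain ⟨E, hEA, hFE, hsup, hcard⟩ := exists_complement hA hFA
    have hE3 : p ^ 3 ≤ Nat.card E := by
      obtain ⟨m, hm⟩ := (isPGroup_of_elab (elab_of_le_of_elab hA hFA)).exists_card_eq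
      have hmk : m < k := (Nat.pow_lt_pow_iff_right (Fact.out : p.Prime).one_lt).mp (hm ▸ hFk)
      refine Nat.le_of_mul_le_mul_left (c := p ^ m) ?_ (pow_pos (Fact.out : p.Prime).pos m)
      calc p ^ m * p ^ 3 ≤ p ^ (k + 2) := by
            rw [← pow_add]; exact Nat.pow_le_pow_right (Fact.out : p.Prime).pos (by omega)
        _ ≤ p ^ m * Nat.card E := hm ▸ hcard ▸ hAk
    obtain ⟨a, ha, ha1⟩ : ∃ a ∈ F, a ≠ 1 := by
      by_contra! h
      exact hFne ((eq_bot_iff_forall F).mpr h)
    let θ' : G → Subgroup G := fun b => kFix p A (F ⊔ zpowers b)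
    have hlt : ∀ b ∈ E, b ≠ 1 → Nat.card A - Nat.card ↥(F ⊔ zpowers b) < n := by
      intro b hb hb1
      have h1 : F < F ⊔ zpowers b := lt_of_le_of_ne le_sup_left fun h => hb1 (by
        have : b ∈ F ⊓ E := ⟨h.ge (mem_sup_right (mem_zpowers b)), hb⟩
        rwa [hFE, mem_bot] at this)
      have h2 : Nat.card F < Nat.card ↥(F ⊔ zpowers b) := Nat.lt_of_le_of_ne
        (Nat.le_of_dvd Nat.card_pos (card_dvd_of_le le_sup_left))
        fun e => h1.ne (eq_of_le_of_card_ge h1.le e.ge)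
      have h3 := Nat.le_of_dvd Nat.card_pos (card_dvd_of_le
        (sup_le hFA (zpowers_le.mpr (hEA hb)) : F ⊔ zpowers b ≤ A))
      omega
    have hbne : ∀ {b : G}, b ≠ 1 → F ⊔ zpowers b ≠ ⊥ := fun _ h =>
      hFne (le_bot_iff.mp (le_sup_left.trans h.le))
    have hθ' : Cfsg.IsSignalizerFunctor p E θ' := by
      refine ⟨fun b _ _ => ?_, fun b _ _ h => ?_, fun b _ _ => ?_, fun b hb hb1 c hc hc1 => ?_⟩
      · exact (kFix_le_centralizer _).trans
          (centralizer_le (Set.singleton_subset_iff.mpr (mem_sup_right (mem_zpowers b))))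
      · exact not_dvd_centralizerPPrimeCore a
          (h.trans (card_dvd_of_le (kFix_le_core (mem_sup_left ha) ha1)))
      · exact fun c hc => conj_mem_of_le_normalizer (le_normalizer_kFix hA _) c (hEA hc)
      · refine le_trans (le_inf inf_le_left ?_) ((ih _ (hlt b hb hb1) (hbne hb1) le_sup_left
          (F' := F ⊔ zpowers b ⊔ zpowers c) (sup_le (sup_le hFA (zpowers_le.mpr (hEA hb)))
            (zpowers_le.mpr (hEA hc))) rfl).trans
              (kFix_anti (sup_le (le_sup_left.trans le_sup_left) le_sup_right)))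
        rw [centralizer_singleton_eq]
        exact (inf_le_inf_right _ (kFix_le_centralizer _)).trans
          (centralizer_inf_le_centralizer_sup _ _)
    have hclo : Cfsg.signalizerClosure E θ' = kFix p A F := by
      refine le_antisymm (iSup_le fun b => kFix_anti le_sup_left) (iSup_le fun B => ?_)
      obtain ⟨b, hbB, hbE, hb1⟩ : ∃ b, b ∈ (B : Subgroup G) ∧ b ∈ E ∧ b ≠ 1 := by
        by_contra! h
        have hd : (B : Subgroup G) ⊓ E = ⊥ := (eq_bot_iff_forall _).mpr fun x hx => h x hx.1 hx.2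
        have h1 := Nat.le_of_dvd Nat.card_pos (card_dvd_of_le (sup_le B.2.1 hEA))
        rw [CfsgLib.Coprime.card_sup_eq ((hEA.trans (le_centralizer_of_elab hA B.2.1)).trans
          (centralizer_le_normalizer _)) hd] at h1
        have h2 := h1.trans B.2.2.1
        rw [mul_comm (Nat.card (B : Subgroup G))] at h2
        have h3 : Nat.card E ≤ p := Nat.le_of_mul_le_mul_right h2 Nat.card_pos
        have h4 : p ^ 1 < p ^ 3 := Nat.pow_lt_pow_right (Fact.out : p.Prime).one_lt (by norm_num)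
        rw [pow_one] at h4
        omega
      exact (le_iSup (fun B : {C : Subgroup G //
            C ≤ A ∧ Nat.card A ≤ p * Nat.card C ∧ F ⊔ zpowers b ≤ C} =>
          Cfsg.signalizerDelta p (B : Subgroup G) ⊓ centralizer ((B : Subgroup G) : Set G))
        ⟨B, B.2.1, B.2.2.1, sup_le B.2.2.2 (zpowers_le.mpr hbB)⟩).trans
        (le_signalizerClosure (θ := θ') hbE hb1)
    have hamb := closure_inf_centralizer_le (elab_of_le_of_elab hA hEA) hE3 hθ'
      (hclo ▸ CfsgLib.Components.isSolvable_mono (hsolv a (hFA ha) ha1) (kFix_le_core ha ha1))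
      (hclo ▸ fun h => not_dvd_centralizerPPrimeCore a
        (h.trans (card_dvd_of_le (kFix_le_core ha ha1))))
    rw [hclo] at hamb
    by_cases heq : F' ≤ F
    · exact inf_le_left.trans (kFix_anti heq)
    obtain ⟨e, he, heF⟩ := SetLike.not_le_iff_exists.mp heq
    obtain ⟨f, hf, b, hb, rfl⟩ := CfsgLib.Coprime.exists_mul_of_mem_sup
      ((hEA.trans (le_centralizer_of_elab hA hFA)).trans (centralizer_le_normalizer _))
      (hsup.ge (hF' he))
    have hb1 : b ≠ 1 := fun h => heF (by rw [h, mul_one]; exact hf)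
    have hbF' : b ∈ F' := by simpa using mul_mem (inv_mem (hFF hf)) he
    exact (le_inf ((inf_le_inf_left _ (centralizer_le (Set.singleton_subset_iff.mpr hbF'))).trans
      (hamb b hb hb1)) inf_le_right).trans
      (ih _ (hlt b hb hb1) (hbne hb1) (sup_le hFF (zpowers_le.mpr hbF')) hF' rfl)

theorem iSup_delta_inf_centralizer_eq (hk : 1 ≤ k) (hbal : Cfsg.IsKBalanced p k G)
    (hA : Cfsg.IsElementaryAbelian p A) (hAk : p ^ (k + 2) ≤ Nat.card A) {a : G} (ha : a ∈ A) :
    (⨆ D : {D : Subgroup G // D ≤ A ∧ Nat.card ↥D = p ^ k},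
      Cfsg.signalizerDelta p (D : Subgroup G) ⊓ centralizer {a}) = kFix p A (zpowers a) := by
  refine le_antisymm (iSup_le fun D => ?_) (iSup_le fun B => ?_)
  · rw [centralizer_singleton_eq]
    exact delta_inf_centralizer_le_kFix hk hbal hA D.2.1 D.2.2 (zpowers_le.mpr ha)
  · have hB : p ^ k ≤ Nat.card (B : Subgroup G) := by
      refine Nat.le_of_mul_le_mul_left (le_trans ?_ (hAk.trans B.2.2.1)) (Fact.out : p.Prime).pos
      rw [← pow_succ']
      exact Nat.pow_le_pow_right (Fact.out : p.Prime).pos (by omega)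
    obtain ⟨D, hD, hDk⟩ := exists_le_card_eq hA B.2.1 hB
    exact (inf_le_inf (signalizerDelta_anti hD) (centralizer_le
      (Set.singleton_subset_iff.mpr (B.2.2.2 (mem_zpowers a))))).trans
      (le_iSup (fun D : {D : Subgroup G // D ≤ A ∧ Nat.card ↥D = p ^ k} =>
        Cfsg.signalizerDelta p (D : Subgroup G) ⊓ centralizer {a}) ⟨D, hD.trans B.2.1, hDk⟩)

theorem isSignalizerFunctor_kFix (hk : 1 ≤ k) (hbal : Cfsg.IsKBalanced p k G)
    (hA : Cfsg.IsElementaryAbelian p A) (hAk : p ^ (k + 2) ≤ Nat.card A)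
    (hsolv : ∀ a ∈ A, a ≠ 1 → Group.IsSolvable ↥(Cfsg.centralizerPPrimeCore p a)) :
    Cfsg.IsSignalizerFunctor p A fun a => kFix p A (zpowers a) := by
  refine ⟨fun a _ _ => (kFix_le_centralizer _).trans
      (centralizer_le (Set.singleton_subset_iff.mpr (mem_zpowers a))),
    fun a _ ha1 h => not_dvd_centralizerPPrimeCore a
      (h.trans (card_dvd_of_le (kFix_le_core (mem_zpowers a) ha1))),
    fun a _ _ => conj_mem_of_le_normalizer (le_normalizer_kFix hA _), fun a ha ha1 b hb _ => ?_⟩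
  refine le_trans (le_inf inf_le_left ?_) ((kFix_inf_centralizer_le hk hbal hA hAk hsolv
    (F := zpowers a) (fun h => ha1 (zpowers_eq_bot.mp h))
    (le_sup_left (b := zpowers b)) (sup_le (zpowers_le.mpr ha) (zpowers_le.mpr hb))).trans
    (kFix_anti le_sup_right))
  rw [centralizer_singleton_eq]
  exact (inf_le_inf_right _ (kFix_le_centralizer _)).trans (centralizer_inf_le_centralizer_sup _ _)

end CfsgLib.Transitivity
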