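import Cfsg.Agent.Transitivity.Basic
import Cfsg.Agent.Coprime.ActionHom

/-!
# The order formula for a coprime action of an elementary abelian group of order `p²`

If `C` is elementary abelian of order `p²` and normalises the `p'`-subgroup `K`, then
`|K| * |C_K(C)| ^ m = ∏ |C_K(Z)|` over the subgroups `Z` of order `p` of `C`, where `m + 1` is
their number (`card_mul_pow_eq_prod`).

* `card_eq_mul_inf`: `|XY| * |X ⊓ Y| = |X| * |Y|` for a subgroup that is a set product
-/

namespace CfsgLib.Transitivity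

open Subgroup
open scoped Pointwise

universe u v

/-- The elements fixed by the subgroup `B` of the acting group. -/
def fixBy {C : Type v} {K : Type u} [Group C] [Group K] (φ : C →* MulAut K) (B : Subgroup C) :
    Subgroup K where
  carrier := {x | ∀ b ∈ B, φ b x = x}
  one_mem' := fun b _ => map_one (φ b)
  mul_mem' := fun {x y} hx hy b hb => by rw [map_mul, hx b hb, hy b hb]
  inv_mem' := fun {x} hx b hb => by rw [map_inv, hx b hb]

/-- The order formula for the counting function `f` on subgroups. -/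
def LineFormula {C : Type v} [Group C] [Fintype (Subgroup C)] (p : ℕ) (f : Subgroup C → ℕ) : Prop :=
  f ⊥ * f ⊤ ^ ((Finset.univ.filter fun Z : Subgroup C => Nat.card Z = p).card - 1) =
    ∏ Z ∈ Finset.univ.filter (fun Z : Subgroup C => Nat.card Z = p), f Z

theorem LineFormula.mul {C : Type v} [Group C] [Fintype (Subgroup C)] {p : ℕ}
    {f g : Subgroup C → ℕ} (hf : LineFormula p f) (hg : LineFormula p g) :
    LineFormula p (fun B => f B * g B) := by
  simp only [LineFormula] at *
  rw [Finset.prod_mul_distrib, ← hf, ← hg, mul_pow]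
  ring

section Lines

variable {p : ℕ} [Fact p.Prime] {C : Type v} [Group C] [Finite C]

theorem zpowers_eq_of_mem (hexp : ∀ a : C, a ^ p = 1) {Z : Subgroup C} (hZ : Nat.card Z = p)
    {a : C} (ha : a ∈ Z) (ha1 : a ≠ 1) : zpowers a = Z :=
  eq_of_le_of_card_ge (zpowers_le.mpr ha)
    (by rw [hZ, Nat.card_zpowers, orderOf_eq_prime (hexp a) ha1])

variable [Fintype C] [DecidableEq C] [Fintype (Subgroup C)] [DecidableEq (Subgroup C)]

/-- Each non-identity element lies on exactly one line. -/
theorem prod_lines_prod (hexp : ∀ a : C, a ^ p = 1) {M : Type*} [CommMonoid M] (F : C → M) :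
    ∏ Z ∈ Finset.univ.filter (fun Z : Subgroup C => Nat.card Z = p),
        ∏ a ∈ (Finset.univ.erase 1).filter (fun a : C => zpowers a = Z), F a =
      ∏ a ∈ Finset.univ.erase (1 : C), F a :=
  Finset.prod_fiberwise_of_maps_to (g := fun a : C => zpowers a) (fun a ha => by
    rw [Finset.mem_filter]
    refine ⟨Finset.mem_univ _, ?_⟩
    rw [Nat.card_zpowers]
    exact orderOf_eq_prime (hexp a) (Finset.ne_of_mem_erase ha)) F

theorem prod_line_eq (hexp : ∀ a : C, a ^ p = 1) {Z : Subgroup C} [Fintype Z]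
    (hZ : Nat.card Z = p) {M : Type*} [CommMonoid M] (F : C → M) :
    ∏ a : Z, F a = F 1 * ∏ a ∈ (Finset.univ.erase 1).filter (fun a : C => zpowers a = Z), F a := by
  classical
  rw [← Finset.prod_subtype (Finset.univ.filter fun a => a ∈ Z) (fun a => by simp) F,
    ← Finset.mul_prod_erase _ F (Finset.mem_filter.mpr ⟨Finset.mem_univ _, one_mem Z⟩)]
  congr 1
  refine Finset.prod_congr (Finset.ext fun a => ?_) fun _ _ => rfl
  simp only [Finset.mem_erase, Finset.mem_filter, Finset.mem_univ, true_and, and_true]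
  exact ⟨fun h => ⟨h.1, zpowers_eq_of_mem hexp hZ h.2 h.1⟩,
    fun h => ⟨h.1, h.2 ▸ mem_zpowers a⟩⟩

theorem card_lines (hexp : ∀ a : C, a ^ p = 1) (hC : Nat.card C = p ^ 2) :
    (Finset.univ.filter fun Z : Subgroup C => Nat.card Z = p).card = p + 1 := by
  have hp := (Fact.out : p.Prime).one_lt
  have key := prod_lines_prod hexp (M := Multiplicative ℕ) (fun _ => Multiplicative.ofAdd 1)
  have hline : ∀ Z ∈ Finset.univ.filter (fun Z : Subgroup C => Nat.card Z = p),
      ∏ _a ∈ (Finset.univ.erase 1).filter (fun a : C => zpowers a = Z), Multiplicative.ofAdd 1 =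
        Multiplicative.ofAdd (p - 1) := by
    intro Z hZ
    rw [Finset.mem_filter] at hZ
    have : Fintype Z := Fintype.ofFinite Z
    have h := prod_line_eq hexp hZ.2 (M := Multiplicative ℕ) (fun _ => Multiplicative.ofAdd 1)
    simp only [Finset.prod_const, Finset.card_univ] at h ⊢
    rw [← Nat.card_eq_fintype_card, hZ.2] at h
    apply Multiplicative.toAdd.injective
    have h' := congrArg Multiplicative.toAdd h
    simp only [toAdd_pow, toAdd_mul, toAdd_ofAdd, smul_eq_mul, mul_one] at h' ⊢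
    omega
  rw [Finset.prod_congr rfl hline] at key
  have h' := congrArg Multiplicative.toAdd key
  simp only [Finset.prod_const, toAdd_pow, toAdd_ofAdd, smul_eq_mul, mul_one] at h'
  rw [Finset.card_erase_of_mem (Finset.mem_univ _), Finset.card_univ, ← Nat.card_eq_fintype_card,
    hC] at h'
  have h2 : p ^ 2 - 1 = (p + 1) * (p - 1) := by
    simpa using Nat.sq_sub_sq p 1
  rw [h2] at h'
  exact Nat.eq_of_mul_eq_mul_right (by omega) h'

end Lines

variable {p : ℕ} [Fact p.Prime] {C : Type v} [Group C] [Finite C] [Fintype (Subgroup C)]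

theorem card_fixBy_eq_mul {K : Type u} [Group K] [Finite K] (φ : C →* MulAut K)
    (N : Subgroup K) [N.Normal] (hcomm : ∀ a b : C, a * b = b * a)
    (hcop : (Nat.card C).Coprime (Nat.card K)) (φN : C →* MulAut N)
    (hφN : ∀ a n, (φN a n : K) = φ a n) (φQ : C →* MulAut (K ⧸ N))
    (hφQ : ∀ a k, φQ a (QuotientGroup.mk k) = QuotientGroup.mk (φ a k)) (B : Subgroup C) :
    Nat.card (fixBy φ B) = Nat.card (fixBy φN B) * Nat.card (fixBy φQ B) := by
  let f : fixBy φ B →* fixBy φQ B :=
    { toFun := fun x => ⟨QuotientGroup.mk (x : K), fun b hb => by rw [hφQ, x.2 b hb]⟩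
      map_one' := rfl
      map_mul' := fun _ _ => rfl }
  have hf : Function.Surjective f := by
    rintro ⟨y, hy⟩
    obtain ⟨k, rfl⟩ := QuotientGroup.mk_surjective y
    have hinv : ∀ b : B, ∀ x ∈ N, (φ.comp B.subtype) b x ∈ N := fun b x hx => by
      have := hφN b ⟨x, hx⟩
      exact this ▸ (φN b ⟨x, hx⟩).2
    obtain ⟨c, hc, hcN⟩ := CfsgLib.Coprime.exists_fixed_mem_coset_hom (φ.comp B.subtype) (N := N)
      hinv ((hcop.coprime_dvd_left (card_subgroup_dvd_card B)).coprime_dvd_right
        (card_subgroup_dvd_card N))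
      (Or.inl (Group.isSolvable_of_comm fun a b => Subtype.ext (hcomm a b))) (k := k)
      (fun b => QuotientGroup.eq.mp (by
        have := hy b b.2
        rw [hφQ] at this
        exact this.symm))
    exact ⟨⟨c, fun b hb => hc ⟨b, hb⟩⟩, Subtype.ext (QuotientGroup.eq.mpr hcN).symm⟩
  have hker : Nat.card f.ker = Nat.card (fixBy φN B) := by
    refine Nat.card_congr ⟨fun x => ⟨⟨((x : fixBy φ B) : K),
        (QuotientGroup.eq_one_iff _).mp (congrArg Subtype.val x.2)⟩, fun b hb => Subtype.ext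
          ((hφN b _).trans (x.1.2 b hb))⟩,
      fun x => ⟨⟨((x : N) : K), fun b hb => (hφN b x.1).symm.trans (congrArg Subtype.val (x.2 b hb))⟩,
        Subtype.ext ((QuotientGroup.eq_one_iff _).mpr x.1.2)⟩, fun x => rfl, fun x => rfl⟩
  rw [Subgroup.card_eq_card_quotient_mul_card_subgroup f.ker,
    Nat.card_congr (QuotientGroup.quotientKerEquivOfSurjective f hf).toEquiv, hker, mul_comm]

theorem card_fixBy_bot {K : Type u} [Group K] (φ : C →* MulAut K) :
    Nat.card (fixBy φ (⊥ : Subgroup C)) = Nat.card K := by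
  rw [show fixBy φ (⊥ : Subgroup C) = ⊤ from top_unique fun x _ b hb => by
    rw [mem_bot.mp hb, map_one]; rfl, card_top]

/-- The abelian case without fixed points. -/
theorem lineFormula_of_fixBy_top_eq_bot {K : Type u} [CommGroup K] [Finite K]
    (φ : C →* MulAut K) (hcomm : ∀ a b : C, a * b = b * a) (hexp : ∀ a : C, a ^ p = 1)
    (hC : Nat.card C = p ^ 2) (hK : ¬ p ∣ Nat.card K) (htop : fixBy φ ⊤ = ⊥) :
    LineFormula p (fun B => Nat.card (fixBy φ B)) := by
  classical
  have : Fintype C := Fintype.ofFinite C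
  set L := Finset.univ.filter (fun Z : Subgroup C => Nat.card Z = p) with hL
  simp only [LineFormula]
  rw [htop, card_bot, one_pow, mul_one, card_fixBy_bot]
  have hfix1 : ∀ x : K, (∀ a : C, φ a x = x) → x = 1 := fun x hx =>
    mem_bot.mp (htop ▸ (show x ∈ fixBy φ ⊤ from fun a _ => hx a))
  have hp1 : ∀ x : K, x ^ p = 1 → x = 1 := fun x hx => orderOf_eq_one_iff.mp
    (Nat.eq_one_of_dvd_coprimes ((Fact.out : p.Prime).coprime_iff_not_dvd.mpr hK)
      (orderOf_dvd_of_pow_eq_one hx) (orderOf_dvd_natCard x))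
  have : ∀ Z : Subgroup C, Fintype Z := fun Z => Fintype.ofFinite Z
  let N : Subgroup C → (K →* K) := fun Z => MonoidHom.mk' (fun x => ∏ a : Z, φ a x)
    (fun x y => by simp only [map_mul, Finset.prod_mul_distrib])
  have hNapply : ∀ Z x, N Z x = ∏ a : Z, φ a x := fun _ _ => rfl
  have hNfix : ∀ Z : Subgroup C, ∀ x, N Z x ∈ fixBy φ Z := by
    intro Z x b hb
    rw [hNapply, map_prod]
    refine Fintype.prod_equiv (Equiv.mulLeft (⟨b, hb⟩ : Z)) _ _ fun a => ?_
    simp only [Equiv.coe_mulLeft, Subgroup.coe_mul, map_mul, MulAut.mul_apply]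
  let Φ : (∀ Z : L, fixBy φ (Z : Subgroup C)) →* K :=
    MonoidHom.mk' (fun x => ∏ Z : L, ((x Z : fixBy φ (Z : Subgroup C)) : K))
      (fun x y => by simp only [Pi.mul_apply, Subgroup.coe_mul, Finset.prod_mul_distrib])
  have hinj : Function.Injective Φ := by
    rw [injective_iff_map_eq_one]
    intro x hx
    funext Z₀
    apply Subtype.ext
    refine hp1 _ ?_
    have hZ₀ : Nat.card (Z₀ : Subgroup C) = p := (Finset.mem_filter.mp Z₀.2).2
    have h1 := congrArg (N Z₀) hx
    rw [map_one] at h1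
    change N Z₀ (∏ Z : L, ((x Z : fixBy φ (Z : Subgroup C)) : K)) = 1 at h1
    rw [map_prod, ← Finset.mul_prod_erase _ _ (Finset.mem_univ Z₀)] at h1
    rw [Finset.prod_eq_one (s := Finset.univ.erase Z₀) ?_, mul_one, hNapply,
      Finset.prod_congr rfl (fun (a : (Z₀ : Subgroup C)) _ => (x Z₀).2 a a.2), Finset.prod_const,
      Finset.card_univ,
      ← Nat.card_eq_fintype_card, hZ₀] at h1
    · exact h1
    intro Z hZ
    refine hfix1 _ fun a => ?_
    have hne : (Z : Subgroup C) ≠ Z₀ := fun e => Finset.ne_of_mem_erase hZ (Subtype.ext e)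
    have hZc : Nat.card (Z : Subgroup C) = p := (Finset.mem_filter.mp Z.2).2
    have hdisj : (Z : Subgroup C) ⊓ Z₀ = ⊥ := by
      rw [eq_bot_iff]
      rintro b ⟨hb, hb₀⟩
      rw [mem_bot]
      by_contra hb1
      exact hne ((zpowers_eq_of_mem hexp hZc hb hb1).symm.trans
        (zpowers_eq_of_mem hexp hZ₀ hb₀ hb1))
    have hn : (Z₀ : Subgroup C) ≤ normalizer ((Z : Subgroup C) : Set C) := fun c _ =>
      centralizer_le_normalizer _ (mem_centralizer_iff.mpr fun d _ => hcomm d c)
    have hsup : (Z : Subgroup C) ⊔ Z₀ = ⊤ := Subgroup.eq_top_of_card_eq _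
      (by rw [CfsgLib.Coprime.card_sup_eq hn hdisj, hZc, hZ₀, hC, sq])
    obtain ⟨z, hz, z₀, hz₀, rfl⟩ :=
      CfsgLib.Coprime.exists_mul_of_mem_sup hn (hsup ▸ mem_top a)
    rw [map_mul, MulAut.mul_apply, hNfix _ _ z₀ hz₀, hNapply, map_prod]
    refine Finset.prod_congr rfl fun b _ => ?_
    rw [← MulAut.mul_apply, ← map_mul, hcomm, map_mul, MulAut.mul_apply, (x Z).2 z hz]
  have hsurj : Function.Surjective Φ := by
    intro v
    have hmem : v ^ p ∈ Φ.range := by
      refine ⟨fun Z => ⟨N Z v, hNfix _ v⟩, ?_⟩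
      change ∏ Z : L, N Z v = v ^ p
      rw [Finset.prod_coe_sort L (fun Z => N Z v)]
      have e : ∀ Z ∈ L, N Z v =
          v * ∏ a ∈ (Finset.univ.erase 1).filter (fun a : C => zpowers a = Z), φ a v := by
        intro Z hZ
        rw [hNapply, prod_line_eq hexp (Finset.mem_filter.mp hZ).2 (fun a : C => φ a v)]
        congr 1
        simp
      rw [Finset.prod_congr rfl e, Finset.prod_mul_distrib, prod_lines_prod hexp, Finset.prod_const,
        card_lines hexp hC, pow_succ, mul_assoc]
      have : v * ∏ a ∈ Finset.univ.erase (1 : C), φ a v = 1 := by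
        refine hfix1 _ fun b => ?_
        have e1 : v * ∏ a ∈ Finset.univ.erase (1 : C), φ a v = ∏ a : C, φ a v := by
          rw [← Finset.mul_prod_erase _ _ (Finset.mem_univ (1 : C)), map_one]
          rfl
        rw [e1, map_prod]
        exact Fintype.prod_equiv (Equiv.mulLeft b) _ _ fun a => by
          simp only [Equiv.coe_mulLeft, map_mul, MulAut.mul_apply]
      rw [this, mul_one]
    obtain ⟨m, hm⟩ := exists_pow_eq_self_of_coprime (x := v) (n := p)
      (((Fact.out : p.Prime).coprime_iff_not_dvd.mpr hK).coprime_dvd_right (orderOf_dvd_natCard v))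
    exact hm ▸ pow_mem hmem m
  rw [← Nat.card_congr (Equiv.ofBijective Φ ⟨hinj, hsurj⟩), Nat.card_pi]
  exact Finset.prod_coe_sort L (fun Z => Nat.card (fixBy φ Z))

/-- Restriction of an action to an invariant subgroup. -/
def restrictAction {K : Type u} [Group K] (φ : C →* MulAut K) (N : Subgroup K)
    (h : ∀ a, N.map (φ a).toMonoidHom = N) : C →* MulAut N :=
  MonoidHom.mk' (fun a => ((φ a).subgroupMap N).trans (MulEquiv.subgroupCongr (h a)))
    (fun a b => MulEquiv.ext fun x => Subtype.ext (by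
      show φ (a * b) (x : K) = φ a (φ b x)
      rw [map_mul]; rfl))

/-- The action induced on the quotient by an invariant normal subgroup. -/
def quotientAction {K : Type u} [Group K] (φ : C →* MulAut K) (N : Subgroup K) [N.Normal]
    (h : ∀ a, N.map (φ a).toMonoidHom = N) : C →* MulAut (K ⧸ N) :=
  MonoidHom.mk' (fun a => QuotientGroup.congr N N (φ a) (h a))
    (fun a b => MulEquiv.ext fun x => by
      obtain ⟨k, rfl⟩ := QuotientGroup.mk_surjective x
      show (QuotientGroup.mk (φ (a * b) k) : K ⧸ N) = QuotientGroup.mk (φ a (φ b k))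
      rw [map_mul]; rfl)

theorem lineFormula_of_isMulCommutative {K : Type u} [CommGroup K] [Finite K]
    (φ : C →* MulAut K) (hcomm : ∀ a b : C, a * b = b * a) (hexp : ∀ a : C, a ^ p = 1)
    (hC : Nat.card C = p ^ 2) (hK : ¬ p ∣ Nat.card K) :
    LineFormula p (fun B => Nat.card (fixBy φ B)) := by
  have hinv : ∀ a, (fixBy φ ⊤).map (φ a).toMonoidHom = fixBy φ ⊤ := fun a => by
    refine le_antisymm ?_ fun x hx => ⟨x, hx, hx a (mem_top a)⟩
    rintro _ ⟨x, hx, rfl⟩
    simp only [MulEquiv.coe_toMonoidHom]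
    rw [hx a (mem_top a)]
    exact hx
  set φN := restrictAction φ (fixBy φ ⊤) hinv
  set φQ := quotientAction φ (fixBy φ ⊤) hinv
  have hcop : (Nat.card C).Coprime (Nat.card K) := by
    rw [hC]; exact ((Fact.out : p.Prime).coprime_iff_not_dvd.mpr hK).pow_left 2
  have key := card_fixBy_eq_mul φ (fixBy φ ⊤) hcomm hcop φN (fun _ _ => rfl) φQ (fun _ _ => rfl)
  have hN : ∀ B : Subgroup C, Nat.card (fixBy φN B) = Nat.card (fixBy φ (⊤ : Subgroup C)) := by
    intro B
    rw [show fixBy φN B = ⊤ from top_unique fun x _ b _ => Subtype.ext (x.2 b (mem_top b)), card_top]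
  have hQ : fixBy φQ ⊤ = ⊥ := by
    refine Subgroup.card_eq_one.mp ?_
    have h := key ⊤
    rw [hN] at h
    exact Nat.eq_of_mul_eq_mul_left (Nat.card_pos (α := fixBy φ (⊤ : Subgroup C)))
      (h.symm.trans (mul_one _).symm)
  simp only [key]
  refine LineFormula.mul ?_ (lineFormula_of_fixBy_top_eq_bot φQ hcomm hexp hC
    (fun h => hK (h.trans (Subgroup.card_quotient_dvd_card _))) hQ)
  show Nat.card (fixBy φN (⊥ : Subgroup C)) * _ = _
  simp only [hN, Finset.prod_const]
  rw [← pow_succ']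
  congr 1
  classical
  have : Fintype C := Fintype.ofFinite C
  rw [card_lines hexp hC]
  rfl

theorem lineFormula_of_isPGroup {K : Type u} [Group K] [Finite K] {q : ℕ} [Fact q.Prime]
    (hq : IsPGroup q K)
    (φ : C →* MulAut K) (hcomm : ∀ a b : C, a * b = b * a) (hexp : ∀ a : C, a ^ p = 1)
    (hC : Nat.card C = p ^ 2) (hK : ¬ p ∣ Nat.card K) :
    LineFormula p (fun B => Nat.card (fixBy φ B)) := by
  suffices key : ∀ n : ℕ, ∀ (K : Type u) [Group K] [Finite K], Nat.card K = n → IsPGroup q K →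
      ∀ φ : C →* MulAut K, ¬ p ∣ Nat.card K → LineFormula p (fun B => Nat.card (fixBy φ B)) from
    key _ K rfl hq φ hK
  intro n
  induction n using Nat.strongRecOn with
  | ind n ih =>
    intro K _ _ hn hq φ hK
    by_cases hab : IsMulCommutative K
    · letI : CommGroup K := { (inferInstance : Group K) with mul_comm := hab.is_comm.comm }
      exact lineFormula_of_isMulCommutative φ hcomm hexp hC hK
    have : Nontrivial K := not_subsingleton_iff_nontrivial.mp fun h =>
      hab ⟨⟨fun a b => Subsingleton.elim _ _⟩⟩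
    have hinv : ∀ a, (center K).map (φ a).toMonoidHom = center K :=
      fun a => characteristic_iff_map_eq.mp inferInstance (φ a)
    set φN := restrictAction φ (center K) hinv
    set φQ := quotientAction φ (center K) hinv
    have hcop : (Nat.card C).Coprime (Nat.card K) := by
      rw [hC]; exact ((Fact.out : p.Prime).coprime_iff_not_dvd.mpr hK).pow_left 2
    have key := card_fixBy_eq_mul φ (center K) hcomm hcop φN (fun _ _ => rfl) φQ (fun _ _ => rfl)
    simp only [key]
    have hNK : ¬ p ∣ Nat.card (center K) := fun h => hK (h.trans (card_subgroup_dvd_card _))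
    letI : CommGroup (center K) :=
      { (inferInstance : Group (center K)) with
        mul_comm := fun a b => Subtype.ext (mem_center_iff.mp b.2 a) }
    refine LineFormula.mul (lineFormula_of_isMulCommutative φN hcomm hexp hC hNK)
      (ih (Nat.card (K ⧸ center K)) ?_ _ rfl (hq.to_quotient _) φQ
        (fun h => hK (h.trans (Subgroup.card_quotient_dvd_card _))))
    have h1 : 1 < Nat.card (center K) :=
      Finite.one_lt_card_iff_nontrivial.mpr hq.center_nontrivial
    rw [← hn, Subgroup.card_eq_card_quotient_mul_card_subgroup (center K)]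
    exact lt_mul_of_one_lt_right Nat.card_pos h1

/-! ### The formula for subgroups -/

variable {G : Type u} [Group G] [Finite G]

/-- `|C_K(B)|` in `q`-parts is `|C_Q(B)|` for a `C`-invariant Sylow `q`-subgroup `Q`. -/
theorem card_sylow_inf_centralizer {q : ℕ} [Fact q.Prime] {E K : Subgroup G}
    (hE : Cfsg.IsElementaryAbelian p E) (hEK : E ≤ normalizer (K : Set G))
    (hK : ¬ p ∣ Nat.card K) (Q : Sylow q K)
    (hEQ : E ≤ normalizer (((Q : Subgroup K).map K.subtype : Subgroup G) : Set G))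
    {B : Subgroup G} (hB : B ≤ E) :
    Nat.card ↥((Q : Subgroup K).map K.subtype ⊓ centralizer (B : Set G)) =
      q ^ (Nat.card ↥(K ⊓ centralizer (B : Set G))).factorization q := by
  have hcop := coprime_card_of_elab hE hK
  set CB := K ⊓ centralizer (B : Set G)
  have hECB : E ≤ normalizer (CB : Set G) :=
    (le_inf hEK (((le_centralizer_iff_isMulCommutative.mpr hE.1).trans
      (centralizer_le (SetLike.coe_subset_coe.mpr hB))).trans le_normalizer)).trans
      inf_normalizer_le_normalizer_inf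
  obtain ⟨S, hES⟩ := CfsgLib.Coprime.exists_invariant_sylow hECB
    (hcop.coprime_dvd_right (card_dvd_of_le inf_le_left)) (Or.inl (isSolvable_of_elab hE)) q
  obtain ⟨Q', hSQ', hEQ'⟩ := CfsgLib.Coprime.exists_invariant_sylow_ge hEK hcop
    (Or.inl (isSolvable_of_elab hE)) ((map_subtype_le _).trans inf_le_left) (S.2.map CB.subtype) hES
  obtain ⟨g, hg, hgeq⟩ := CfsgLib.Coprime.exists_conj_map_sylow Q' Q
  obtain ⟨c, hc, hceq⟩ := CfsgLib.Coprime.exists_conj_eq_of_invariant hEK hcop
    (Or.inl (isSolvable_of_elab hE)) hEQ' hEQ hg hgeq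
  obtain ⟨hcK, hcE⟩ := mem_inf.mp hc
  have hle : Nat.card ((S : Subgroup CB).map CB.subtype) ∣
      Nat.card ↥((Q : Subgroup K).map K.subtype ⊓ centralizer (B : Set G)) := by
    rw [← card_map_of_injective (f := (MulAut.conj c).toMonoidHom) (MulAut.conj c).injective]
    refine card_dvd_of_le (le_inf ((map_mono hSQ').trans hceq.le) ?_)
    rintro _ ⟨x, hx, rfl⟩
    have hcB := centralizer_le (SetLike.coe_subset_coe.mpr hB) hcE
    exact mul_mem (mul_mem hcB (mem_inf.mp (map_subtype_le _ hx)).2) (inv_mem hcB)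
  rw [card_map_of_injective CB.subtype_injective, S.card_eq_multiplicity] at hle
  refine Nat.dvd_antisymm ?_ hle
  obtain ⟨k, hk⟩ := ((Q.2.map K.subtype).to_le (inf_le_left :
    (Q : Subgroup K).map K.subtype ⊓ centralizer (B : Set G) ≤ _)).exists_card_eq
  rw [hk]
  exact pow_dvd_pow q (((Fact.out : q.Prime).pow_dvd_iff_le_factorization Nat.card_pos.ne').mp
    (hk ▸ card_dvd_of_le (inf_le_inf_right _ (map_subtype_le _))))

theorem card_mul_pow_eq_prod {E K : Subgroup G} [Fintype (Subgroup E)]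
    (hE : Cfsg.IsElementaryAbelian p E) (hcard : Nat.card E = p ^ 2)
    (hEK : E ≤ normalizer (K : Set G)) (hK : ¬ p ∣ Nat.card K) :
    LineFormula p (fun B : Subgroup E =>
      Nat.card ↥(K ⊓ centralizer ((B.map E.subtype : Subgroup G) : Set G))) := by
  refine Nat.eq_of_factorization_eq (mul_ne_zero Nat.card_pos.ne' (pow_ne_zero _ Nat.card_pos.ne'))
    (Finset.prod_ne_zero_iff.mpr fun _ _ => Nat.card_pos.ne') fun q => ?_
  by_cases hq : q.Prime
  swap
  · rw [Nat.factorization_eq_zero_of_not_prime _ hq, Nat.factorization_eq_zero_of_not_prime _ hq]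
  have := Fact.mk hq
  obtain ⟨Q, hEQ⟩ := CfsgLib.Coprime.exists_invariant_sylow hEK (coprime_card_of_elab hE hK)
    (Or.inl (isSolvable_of_elab hE)) q
  set Qg := (Q : Subgroup K).map K.subtype
  have hQp : ¬ p ∣ Nat.card Qg := fun h => hK (h.trans (card_dvd_of_le (map_subtype_le _)))
  have hinv : ∀ a : E, Qg.map (MulAut.conj (a : G)).toMonoidHom = Qg := fun a =>
    mem_normalizer_iff_map_conj_eq.mp (hEQ a.2)
  let φ : E →* MulAut Qg := restrictAction ((MulAut.conj).comp E.subtype) Qg hinv
  have hfix : ∀ B : Subgroup E, Nat.card (fixBy φ B) =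
      Nat.card ↥(Qg ⊓ centralizer ((B.map E.subtype : Subgroup G) : Set G)) := by
    intro B
    refine Nat.card_congr ⟨fun x => ⟨(x : Qg), (x : Qg).2, ?_⟩,
      fun x => ⟨⟨x, x.2.1⟩, fun b hb => Subtype.ext ?_⟩, fun x => rfl, fun x => rfl⟩
    · rintro _ ⟨b, hb, rfl⟩
      have h := congrArg Subtype.val (x.2 b hb)
      change (b : G) * _ * (b : G)⁻¹ = _ at h
      exact mul_inv_eq_iff_eq_mul.mp h
    · show (b : G) * x * (b : G)⁻¹ = x
      rw [x.2.2 b (mem_map_of_mem _ hb), mul_inv_cancel_right]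
  have hcommE : ∀ a b : E, a * b = b * a := hE.1.is_comm.comm
  have hF := lineFormula_of_isPGroup (Q.2.map K.subtype) φ hcommE
    (fun a => Subtype.ext (by simpa using hE.2 a a.2)) hcard hQp
  have hF' : LineFormula p (fun B : Subgroup E =>
      Nat.card ↥(Qg ⊓ centralizer ((B.map E.subtype : Subgroup G) : Set G))) := by
    rw [show (fun B : Subgroup E =>
        Nat.card ↥(Qg ⊓ centralizer ((B.map E.subtype : Subgroup G) : Set G))) =
      fun B => Nat.card (fixBy φ B) from funext fun B => (hfix B).symm]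
    exact hF
  simp only [LineFormula] at hF' ⊢
  have hfac : ∀ B : Subgroup E,
      (Nat.card ↥(Qg ⊓ centralizer ((B.map E.subtype : Subgroup G) : Set G))).factorization q =
      (Nat.card ↥(K ⊓ centralizer ((B.map E.subtype : Subgroup G) : Set G))).factorization q := by
    intro B
    rw [card_sylow_inf_centralizer hE hEK hK Q hEQ (map_subtype_le B), hq.factorization_pow,
      Finsupp.single_eq_same]
  have h := congrArg (fun n : ℕ => n.factorization q) hF'
  simp only [Nat.factorization_mul Nat.card_pos.ne' (pow_ne_zero _ Nat.card_pos.ne'),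
    Nat.factorization_pow, Nat.factorization_prod (fun _ _ => Nat.card_pos.ne'),
    Finsupp.add_apply, Finsupp.smul_apply, Finsupp.finsetSum_apply, hfac] at h ⊢
  exact h

/-- The product set of two subgroups `X` and `Y` has `|X| |Y| / |X ⊓ Y|` elements. -/
theorem card_eq_mul_inf {S : Set G} {X Y : Subgroup G} (h : S = (X : Set G) * (Y : Set G)) :
    Nat.card S * Nat.card ↥(X ⊓ Y) = Nat.card X * Nat.card Y := by
  have hmem : ∀ z : X × Y, (z.1 : G) * z.2 ∈ S := fun z => by
    rw [h]; exact Set.mul_mem_mul z.1.2 z.2.2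
  have hsplit : ∀ k : S, ∃ x ∈ X, ∃ y ∈ Y, x * y = (k : G) := fun k => Set.mem_mul.mp (h ▸ k.2)
  choose xf hxf yf hyf hf using hsplit
  rw [← Nat.card_prod, ← Nat.card_prod]
  refine Nat.card_congr (Equiv.ofBijective
    (fun w : S × ↥(X ⊓ Y) => ((⟨xf w.1 * w.2, mul_mem (hxf w.1) w.2.2.1⟩ : X),
      (⟨(w.2 : G)⁻¹ * yf w.1, mul_mem (inv_mem w.2.2.2) (hyf w.1)⟩ : Y))) ⟨?_, ?_⟩)
  · rintro ⟨k, i⟩ ⟨k', i'⟩ e
    simp only [Prod.mk.injEq, Subtype.mk.injEq] at e
    have hk : k = k' := Subtype.ext (by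
      rw [← hf k, ← hf k']
      calc xf k * yf k = (xf k * i) * ((i : G)⁻¹ * yf k) := by group
        _ = (xf k' * i') * ((i' : G)⁻¹ * yf k') := by rw [e.1, e.2]
        _ = xf k' * yf k' := by group)
    subst hk
    exact Prod.ext rfl (Subtype.ext (mul_left_cancel e.1))
  · rintro ⟨x, y⟩
    set k : S := ⟨_, hmem (x, y)⟩
    have he : (xf k)⁻¹ * (x : G) = yf k * (y : G)⁻¹ := by
      rw [inv_mul_eq_iff_eq_mul, ← mul_assoc, eq_mul_inv_iff_mul_eq, hf k]
    refine ⟨(k, ⟨(xf k)⁻¹ * (x : G), mem_inf.mpr ⟨mul_mem (inv_mem (hxf k)) x.2, ?_⟩⟩), ?_⟩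
    · rw [he]; exact mul_mem (hyf k) (inv_mem y.2)
    · refine Prod.ext (Subtype.ext (mul_inv_cancel_left _ _)) (Subtype.ext ?_)
      show ((xf k)⁻¹ * (x : G))⁻¹ * yf k = y
      rw [he]; group

end CfsgLib.Transitivity
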