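import Cfsg.Prelude.Def_Balance
import Cfsg.Agent.Coprime.Action
import Cfsg.Agent.Coprime.Generation
import Cfsg.Agent.PLocal.Cores
import Cfsg.Agent.Components.FStar

/-!
# The family of a signalizer functor

Basic closure properties of `Cfsg.signalizerFamily`, coprime facts for elementary abelian groups,
and the hyperplane form of generation by centralisers.

* `mem_family_sup`, `map_mem_family_conj`, `mem_family_of_le`, `mem_family_theta`
* `exists_hyperplane_not_le`
-/

namespace CfsgLib.Transitivity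

open Subgroup

variable {G : Type*} [Group G] {p : ℕ} [Fact p.Prime] {A : Subgroup G}

omit [Fact p.Prime] in
theorem le_normalizer_of_forall_conj {A U : Subgroup G}
    (h : ∀ b ∈ A, ∀ u ∈ U, b * u * b⁻¹ ∈ U) : A ≤ normalizer (U : Set G) := by
  intro b hb
  rw [mem_normalizer_iff]
  refine fun u => ⟨h b hb u, fun hu => ?_⟩
  have := h b⁻¹ (inv_mem hb) _ hu
  simpa [mul_assoc] using this

omit [Fact p.Prime] in
theorem conj_mem_of_le_normalizer {A U : Subgroup G} (h : A ≤ normalizer (U : Set G)) :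
    ∀ b ∈ A, ∀ u ∈ U, b * u * b⁻¹ ∈ U :=
  fun b hb u hu => (mem_normalizer_iff.mp (h hb) u).mp hu

omit [Fact p.Prime] in
theorem isPGroup_of_elab (hA : Cfsg.IsElementaryAbelian p A) : IsPGroup p A :=
  fun a => ⟨1, Subtype.ext (by simpa using hA.2 a a.2)⟩

theorem coprime_card_of_elab [Finite G] (hA : Cfsg.IsElementaryAbelian p A) {K : Subgroup G}
    (hK : ¬ p ∣ Nat.card K) : (Nat.card A).Coprime (Nat.card K) := by
  obtain ⟨n, hn⟩ := (isPGroup_of_elab hA).exists_card_eq
  rw [hn]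
  exact ((Fact.out : p.Prime).coprime_iff_not_dvd.mpr hK).pow_left n

omit [Fact p.Prime] in
theorem isSolvable_of_elab (hA : Cfsg.IsElementaryAbelian p A) : Group.IsSolvable A :=
  Group.isSolvable_of_comm fun a b => hA.1.is_comm.comm a b

theorem not_isCyclic_of_elab [Finite G] (hA : Cfsg.IsElementaryAbelian p A)
    (h : p ^ 2 ≤ Nat.card A) : ¬ IsCyclic A := by
  intro hc
  obtain ⟨g, hg⟩ := hc.exists_ofOrder_eq_natCard
  have hle : orderOf g ≤ p :=
    Nat.le_of_dvd (Fact.out : p.Prime).pos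
      (orderOf_dvd_of_pow_eq_one (Subtype.ext (by simpa using hA.2 g g.2)))
  rw [hg] at hle
  have : p < p ^ 2 := by
    have := (Fact.out : p.Prime).one_lt
    nlinarith
  omega

theorem mem_zpowers_of_ne_one [Finite G] {x v : G} (hx : x ^ p = 1) (hv : v ∈ zpowers x)
    (hv1 : v ≠ 1) : x ∈ zpowers v := by
  have hxo : orderOf x = p := orderOf_eq_prime hx fun h => hv1 (by
    rw [h, zpowers_one_eq_bot, mem_bot] at hv; exact hv)
  have hle : zpowers v ≤ zpowers x := zpowers_le.mpr hv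
  rcases (Nat.dvd_prime (Fact.out : p.Prime)).mp (hxo ▸ Nat.card_zpowers x ▸ card_dvd_of_le hle)
    with h | h
  · exact absurd (zpowers_eq_bot.mp (Subgroup.card_eq_one.mp h)) hv1
  · exact (eq_of_le_of_card_ge hle (by rw [h, Nat.card_zpowers, hxo])).ge (mem_zpowers x)

omit [Fact p.Prime] in
theorem centralizer_singleton_eq (a : G) :
    centralizer ({a} : Set G) = centralizer ((zpowers a : Subgroup G) : Set G) := by
  rw [zpowers_eq_closure, centralizer_closure]

/-- Hyperplane form of generation by centralisers. -/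
theorem exists_hyperplane_not_le [Finite G] (hA : Cfsg.IsElementaryAbelian p A) {N D : Subgroup G}
    (hAN : A ≤ normalizer (N : Set G)) (hN : ¬ p ∣ Nat.card N) (hND : ¬ N ≤ D) :
    ∃ B ≤ A, Nat.card A ≤ p * Nat.card B ∧ ¬ N ⊓ centralizer (B : Set G) ≤ D := by
  obtain ⟨B, hB⟩ := (Set.toFinite {B : Subgroup G | B ≤ A ∧
    ¬ N ⊓ centralizer (B : Set G) ≤ D}).exists_maximal ⟨⊥, bot_le, fun h => hND fun x hx =>
      h ⟨hx, mem_centralizer_iff.mpr fun y hy => by rw [mem_bot.mp hy, one_mul, mul_one]⟩⟩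
  obtain ⟨hBA, hBD⟩ := hB.1
  refine ⟨B, hBA, ?_, hBD⟩
  by_contra hlt
  rw [not_le] at hlt
  obtain ⟨x, hxA, hxB⟩ := SetLike.not_le_iff_exists.mp
    (fun h : A ≤ B => absurd (Nat.le_of_dvd Nat.card_pos (card_dvd_of_le h))
      (by have h1 := (Fact.out : p.Prime).one_lt
          have h2 : 0 < Nat.card B := Nat.card_pos
          nlinarith))
  have := hA.1
  have hcomm : A ≤ centralizer (A : Set G) := Subgroup.le_centralizer_iff_isMulCommutative.mpr hA.1
  have hxn : zpowers x ≤ normalizer (B : Set G) := by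
    rw [zpowers_le]
    exact centralizer_le_normalizer _ (centralizer_le (SetLike.coe_subset_coe.mpr hBA) (hcomm hxA))
  obtain ⟨y, hyA, hyB⟩ := SetLike.not_le_iff_exists.mp
    (fun h : A ≤ B ⊔ zpowers x => absurd (Nat.le_of_dvd Nat.card_pos (card_dvd_of_le h)) (by
      rw [not_le]
      refine lt_of_le_of_lt ?_ hlt
      rw [CfsgLib.Coprime.card_sup_eq hxn, mul_comm, Nat.card_zpowers]
      · exact Nat.mul_le_mul_right _ (Nat.le_of_dvd (Fact.out : p.Prime).pos
          (orderOf_dvd_of_pow_eq_one (hA.2 x hxA)))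
      · rw [eq_bot_iff]
        rintro v ⟨hvB, hvx⟩
        rw [mem_bot]
        by_contra hv1
        exact hxB (zpowers_le.mpr hvB (mem_zpowers_of_ne_one (hA.2 x hxA) hvx hv1))))
  let C := zpowers x ⊔ zpowers y
  have hCA : C ≤ A := sup_le (zpowers_le.mpr hxA) (zpowers_le.mpr hyA)
  have hyn : zpowers y ≤ normalizer ((zpowers x : Subgroup G) : Set G) :=
    ((zpowers_le.mpr hyA).trans hcomm).trans ((centralizer_le
      (SetLike.coe_subset_coe.mpr (zpowers_le.mpr hxA))).trans (centralizer_le_normalizer _))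
  have hBC : B ⊓ C = ⊥ := by
    rw [eq_bot_iff]
    rintro c ⟨hcB, hcC⟩
    obtain ⟨u, hu, v, hv, rfl⟩ := CfsgLib.Coprime.exists_mul_of_mem_sup hyn hcC
    rw [mem_bot]
    by_cases hv1 : v = 1
    · subst hv1
      rw [mul_one] at hcB ⊢
      by_contra hu1
      exact hxB (zpowers_le.mpr hcB (mem_zpowers_of_ne_one (hA.2 x hxA) hu hu1))
    · have hvmem : v ∈ B ⊔ zpowers x := by
        have := mul_mem (inv_mem (mem_sup_right (S := B) hu))
          (mem_sup_left (T := zpowers x) hcB)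
        simpa using this
      exact absurd (zpowers_le.mpr hvmem (mem_zpowers_of_ne_one (hA.2 y hyA) hv hv1)) hyB
  have hCel : Cfsg.IsElementaryAbelian p C :=
    ⟨⟨⟨fun a b => Subtype.ext (mem_centralizer_iff.mp (hcomm (hCA b.2)) a (hCA a.2))⟩⟩,
      fun c hc => hA.2 c (hCA hc)⟩
  have hC2 : p ^ 2 ≤ Nat.card C := by
    have hx1 : x ≠ 1 := fun h => hxB (h ▸ one_mem B)
    have hy1 : y ≠ 1 := fun h => hyB (h ▸ one_mem _)
    rw [CfsgLib.Coprime.card_sup_eq hyn, Nat.card_zpowers, Nat.card_zpowers,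
      orderOf_eq_prime (hA.2 x hxA) hx1, orderOf_eq_prime (hA.2 y hyA) hy1, sq]
    rw [eq_bot_iff]
    rintro v ⟨hvx, hvy⟩
    rw [mem_bot]
    by_contra hv1
    exact hyB (mem_sup_right (zpowers_le.mpr hvx (mem_zpowers_of_ne_one (hA.2 y hyA) hvy hv1)))
  have := hCel.1
  refine hBD (CfsgLib.Coprime.le_of_forall_inf_centralizer_le
    (G := N ⊓ centralizer (B : Set G)) (not_isCyclic_of_elab hCel hC2) ?_
    (coprime_card_of_elab hCel fun h => hN (h.trans (card_dvd_of_le inf_le_left))) ?_)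
  · refine (le_inf (hCA.trans hAN) ?_).trans inf_normalizer_le_normalizer_inf
    exact (hCA.trans (hcomm.trans (centralizer_le (SetLike.coe_subset_coe.mpr hBA)))).trans
      le_normalizer
  · intro c hc hc1
    by_contra hcD
    have hcB : c ∉ B := fun h => hc1 (by
      have : c ∈ B ⊓ C := ⟨h, hc⟩
      rwa [hBC, mem_bot] at this)
    refine hcB ((hB.2 (y := B ⊔ zpowers c) ⟨sup_le hBA (zpowers_le.mpr (hCA hc)), fun h => hcD ?_⟩
      le_sup_left) (mem_sup_right (mem_zpowers c)))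
    refine le_trans ?_ h
    rw [inf_assoc]
    refine inf_le_inf_left N ?_
    rw [le_centralizer_iff, sup_le_iff]
    exact ⟨le_centralizer_iff.mp inf_le_left,
      le_centralizer_iff.mp (inf_le_right.trans (centralizer_singleton_eq c).le)⟩

/-- Two hyperplanes of a group of rank at least three meet nontrivially. -/
theorem exists_mem_inf_of_hyperplanes [Finite G] (hA : Cfsg.IsElementaryAbelian p A)
    (hA3 : p ^ 3 ≤ Nat.card A) {B₁ B₂ : Subgroup G} (h₁ : B₁ ≤ A) (h₂ : B₂ ≤ A)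
    (hc₁ : Nat.card A ≤ p * Nat.card B₁) (hc₂ : Nat.card A ≤ p * Nat.card B₂) :
    ∃ a, a ∈ B₁ ∧ a ∈ B₂ ∧ a ≠ 1 := by
  by_contra! h
  have hd : B₁ ⊓ B₂ = ⊥ := (eq_bot_iff_forall _).mpr fun a ha => h a ha.1 ha.2
  have := hA.1
  have hn : B₂ ≤ normalizer (B₁ : Set G) :=
    ((h₂.trans (Subgroup.le_centralizer_iff_isMulCommutative.mpr hA.1)).trans
      (centralizer_le (SetLike.coe_subset_coe.mpr h₁))).trans (centralizer_le_normalizer _)
  have hle := Nat.le_of_dvd Nat.card_pos (card_dvd_of_le (sup_le h₁ h₂ : B₁ ⊔ B₂ ≤ A))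
  rw [CfsgLib.Coprime.card_sup_eq hn hd] at hle
  have h5 := Nat.mul_le_mul hc₁ hc₂
  have h6 : p * p * (Nat.card B₁ * Nat.card B₂) ≤ p * p * Nat.card A := Nat.mul_le_mul_left _ hle
  have h7 : 0 < Nat.card A := Nat.card_pos
  have h8 := (Fact.out : p.Prime).one_lt
  have h9 : Nat.card A * Nat.card A ≤ p * p * Nat.card A := by nlinarith
  have h10 : Nat.card A ≤ p * p := Nat.le_of_mul_le_mul_right h9 h7
  nlinarith [pow_succ p 2, pow_two p]

/-! ### The family -/

variable {θ : G → Subgroup G}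

omit [Fact p.Prime] in
theorem family_le_normalizer {U : Subgroup G} (hU : U ∈ Cfsg.signalizerFamily p A θ) :
    A ≤ normalizer (U : Set G) :=
  le_normalizer_of_forall_conj hU.2.2.1

omit [Fact p.Prime] in
theorem mem_family_of_le {U V : Subgroup G} (hU : U ∈ Cfsg.signalizerFamily p A θ) (hVU : V ≤ U)
    (hV : A ≤ normalizer (V : Set G)) : V ∈ Cfsg.signalizerFamily p A θ :=
  ⟨CfsgLib.Components.isSolvable_mono hU.1 hVU, fun h => hU.2.1 (h.trans (card_dvd_of_le hVU)),
    conj_mem_of_le_normalizer hV, fun a ha ha1 => (inf_le_inf_right _ hVU).trans (hU.2.2.2 a ha ha1)⟩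

omit [Fact p.Prime] in
theorem mem_family_theta (hθ : Cfsg.IsSolvableSignalizerFunctor p A θ) {a : G} (ha : a ∈ A)
    (ha1 : a ≠ 1) : θ a ∈ Cfsg.signalizerFamily p A θ :=
  ⟨hθ.2 a ha ha1, hθ.1.2.1 a ha ha1, hθ.1.2.2.1 a ha ha1, fun b hb hb1 =>
    hθ.1.2.2.2 a ha ha1 b hb hb1⟩

theorem mem_family_sup [Finite G] (hA : Cfsg.IsElementaryAbelian p A) {X Y : Subgroup G}
    (hX : X ∈ Cfsg.signalizerFamily p A θ) (hY : Y ∈ Cfsg.signalizerFamily p A θ)
    (hn : Y ≤ normalizer (X : Set G)) : X ⊔ Y ∈ Cfsg.signalizerFamily p A θ := by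
  have hAX := family_le_normalizer hX
  have hAY := family_le_normalizer hY
  refine ⟨CfsgLib.Components.isSolvable_sup hX.1 hY.1 hn, ?_, ?_, ?_⟩
  · intro hp
    have : (X.subgroupOf (X ⊔ Y)).Normal :=
      normal_subgroupOf_of_le_normalizer (sup_le le_normalizer hn)
    have h1 := CfsgLib.PLocal.card_sup_dvd_mul (Y.subgroupOf (X ⊔ Y)) (X.subgroupOf (X ⊔ Y))
    rw [sup_comm (Y.subgroupOf (X ⊔ Y)), ← subgroupOf_sup le_sup_left le_sup_right, subgroupOf_self,
      Subgroup.card_top, Nat.card_congr (subgroupOfEquivOfLe (le_sup_right : Y ≤ X ⊔ Y)).toEquiv,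
      Nat.card_congr (subgroupOfEquivOfLe (le_sup_left : X ≤ X ⊔ Y)).toEquiv] at h1
    rcases (Nat.Prime.dvd_mul Fact.out).mp (hp.trans h1) with h | h
    · exact hY.2.1 h
    · exact hX.2.1 h
  · refine conj_mem_of_le_normalizer ?_
    intro b hb
    rw [mem_normalizer_iff_map_conj_eq, Subgroup.map_sup, mem_normalizer_iff_map_conj_eq.mp (hAX hb),
      mem_normalizer_iff_map_conj_eq.mp (hAY hb)]
  · intro a ha ha1 c hc
    obtain ⟨hc1, hc2⟩ := mem_inf.mp hc
    obtain ⟨x, hx, y, hy, rfl⟩ := CfsgLib.Coprime.exists_mul_of_mem_sup hn hc1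
    have hzA : zpowers a ≤ A := zpowers_le.mpr ha
    obtain ⟨x', hx', y', hy', e⟩ := CfsgLib.Coprime.exists_mul_eq_of_mem_centralizer
      (hzA.trans hAX) (hzA.trans hAY)
      ((coprime_card_of_elab hA fun h => hX.2.1 (h.trans (card_dvd_of_le inf_le_left))).coprime_dvd_left
        (card_dvd_of_le hzA))
      (Or.inl (CfsgLib.Components.isSolvable_mono (isSolvable_of_elab hA) hzA)) hx hy
      (by rwa [← centralizer_singleton_eq])
    rw [← centralizer_singleton_eq] at hx' hy'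
    rw [e]
    exact mul_mem (hX.2.2.2 a ha ha1 hx') (hY.2.2.2 a ha ha1 hy')

omit [Fact p.Prime] in
theorem mem_signalizerInf {B : Subgroup G} {c : G} :
    c ∈ Cfsg.signalizerInf B θ ↔ ∀ b ∈ B, b ≠ 1 → c ∈ θ b := by
  simp only [Cfsg.signalizerInf, mem_iInf, Subtype.forall, and_imp]

omit [Fact p.Prime] in
theorem signalizerInf_le_centralizer (hθ : Cfsg.IsSignalizerFunctor p A θ) {B : Subgroup G}
    (hBA : B ≤ A) : Cfsg.signalizerInf B θ ≤ centralizer (B : Set G) := by
  intro c hc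
  rw [mem_centralizer_iff]
  intro b hb
  by_cases hb1 : b = 1
  · rw [hb1, one_mul, mul_one]
  · exact (mem_centralizer_singleton_iff.mp
      (hθ.1 b (hBA hb) hb1 (mem_signalizerInf.mp hc b hb hb1))).symm

omit [Fact p.Prime] in
theorem map_conj_mem_family (hθ : Cfsg.IsSignalizerFunctor p A θ) {U : Subgroup G}
    (hU : U ∈ Cfsg.signalizerFamily p A θ) {c : G} (hc : c ∈ Cfsg.signalizerInf A θ) :
    U.map (MulAut.conj c).toMonoidHom ∈ Cfsg.signalizerFamily p A θ := by
  have hcA : ∀ b ∈ A, b * c = c * b := fun b hb =>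
    mem_centralizer_iff.mp (signalizerInf_le_centralizer hθ le_rfl hc) b hb
  refine ⟨CfsgLib.Components.isSolvable_map _ hU.1, ?_, ?_, ?_⟩
  · rw [card_map_of_injective (MulAut.conj c).injective]
    exact hU.2.1
  · rintro b hb _ ⟨u, hu, rfl⟩
    refine ⟨b * u * b⁻¹, hU.2.2.1 b hb u hu, ?_⟩
    simp only [MulEquiv.coe_toMonoidHom, MulAut.conj_apply]
    calc c * (b * u * b⁻¹) * c⁻¹ = (c * b) * u * (c * b)⁻¹ := by group
      _ = (b * c) * u * (b * c)⁻¹ := by rw [hcA b hb]
      _ = b * (c * u * c⁻¹) * b⁻¹ := by group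
  · rintro a ha ha1 _ ⟨⟨u, hu, rfl⟩, hua⟩
    simp only [MulEquiv.coe_toMonoidHom, MulAut.conj_apply] at hua ⊢
    replace hua : c * u * c⁻¹ * a = a * (c * u * c⁻¹) := mem_centralizer_singleton_iff.mp hua
    have h1 : u ∈ θ a := hU.2.2.2 a ha ha1 (mem_inf.mpr ⟨hu, mem_centralizer_singleton_iff.mpr (by
      calc u * a = c⁻¹ * (c * u * c⁻¹) * (c * a) := by group
        _ = c⁻¹ * ((c * u * c⁻¹) * a) * c := by rw [← hcA a ha]; group
        _ = c⁻¹ * (a * (c * u * c⁻¹)) * c := by rw [hua]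
        _ = c⁻¹ * (a * c) * u := by group
        _ = a * u := by rw [hcA a ha]; group)⟩)
    exact mul_mem (mul_mem (mem_signalizerInf.mp hc a ha ha1) h1)
      (inv_mem (mem_signalizerInf.mp hc a ha ha1))

end CfsgLib.Transitivity
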