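import Cfsg.Agent.Transitivity.Basic

/-!
# The transitivity theorem for solvable signalizer functors

* `exists_common_normalizer_centralizer` : the hyperplane argument for two `q`-subgroups
* `exists_conj_of_maximal` : maximal `q`-members of the family are conjugate under `θ(C_G(A))`
* `exists_sylow_map_eq_conj_inf` : they meet members in Sylow subgroups
-/

namespace CfsgLib.Transitivity

open Subgroup

variable {G : Type*} [Group G] [Finite G] {p : ℕ} [Fact p.Prime] {A : Subgroup G}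
  {θ : G → Subgroup G} {q : ℕ} [Fact q.Prime]

omit [Fact p.Prime] in
theorem lt_inf_normalizer {D Q : Subgroup G} (hQ : IsPGroup q Q) (hDQ : D ≤ Q) (hne : D ≠ Q) :
    ¬ normalizer (D : Set G) ⊓ Q ≤ D := by
  intro hle
  have : Group.IsNilpotent Q := hQ.isNilpotent
  have hlt := Group.normalizerCondition_of_isNilpotent (G := Q) (D.subgroupOf Q)
    (lt_top_iff_ne_top.mpr fun h => hne (le_antisymm hDQ (subgroupOf_eq_top.mp h)))
  obtain ⟨x, hx, hxD⟩ := SetLike.exists_of_lt hlt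
  rw [← subgroupOf_normalizer_eq hDQ, mem_subgroupOf] at hx
  exact hxD (hle ⟨hx, x.2⟩)

theorem exists_common_normalizer_centralizer (hA : Cfsg.IsElementaryAbelian p A)
    (hA3 : p ^ 3 ≤ Nat.card A) (hqp : q ≠ p) {Q₁ Q₂ D : Subgroup G} (h₁ : IsPGroup q Q₁)
    (h₂ : IsPGroup q Q₂) (hA₁ : A ≤ normalizer (Q₁ : Set G)) (hA₂ : A ≤ normalizer (Q₂ : Set G))
    (hAD : A ≤ normalizer (D : Set G)) (hD₁ : D ≤ Q₁) (hD₂ : D ≤ Q₂) (hne₁ : D ≠ Q₁)
    (hne₂ : D ≠ Q₂) :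
    ∃ a ∈ A, a ≠ 1 ∧ ¬ normalizer (D : Set G) ⊓ Q₁ ⊓ centralizer ({a} : Set G) ≤ D ∧
      ¬ normalizer (D : Set G) ⊓ Q₂ ⊓ centralizer ({a} : Set G) ≤ D := by
  have hp' : ∀ {Q : Subgroup G}, IsPGroup q Q →
      ¬ p ∣ Nat.card ↥(normalizer (D : Set G) ⊓ Q) := by
    intro Q hQ h
    obtain ⟨n, hn⟩ := (hQ.to_le (inf_le_right : normalizer (D : Set G) ⊓ Q ≤ Q)).exists_card_eq
    rw [hn] at h
    exact hqp ((Nat.prime_dvd_prime_iff_eq Fact.out Fact.out).mp
      ((Fact.out : p.Prime).dvd_of_dvd_pow h)).symm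
  have hN : ∀ {Q : Subgroup G}, A ≤ normalizer (Q : Set G) →
      A ≤ normalizer ((normalizer (D : Set G) ⊓ Q : Subgroup G) : Set G) := fun hQ =>
    (le_inf (hAD.trans le_normalizer) hQ).trans inf_normalizer_le_normalizer_inf
  obtain ⟨B₁, hB₁, hc₁, hn₁⟩ := exists_hyperplane_not_le hA (hN hA₁) (hp' h₁)
    (lt_inf_normalizer h₁ hD₁ hne₁)
  obtain ⟨B₂, hB₂, hc₂, hn₂⟩ := exists_hyperplane_not_le hA (hN hA₂) (hp' h₂)
    (lt_inf_normalizer h₂ hD₂ hne₂)
  obtain ⟨a, ha₁, ha₂, ha1⟩ := exists_mem_inf_of_hyperplanes hA hA3 hB₁ hB₂ hc₁ hc₂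
  exact ⟨a, hB₁ ha₁, ha1,
    fun h => hn₁ ((inf_le_inf_left _ (centralizer_le (Set.singleton_subset_iff.mpr ha₁))).trans h),
    fun h => hn₂ ((inf_le_inf_left _ (centralizer_le (Set.singleton_subset_iff.mpr ha₂))).trans h)⟩

/-- `Q` is a maximal `q`-subgroup in the family of `θ`. -/
def IsMaximalMember (p q : ℕ) (A : Subgroup G) (θ : G → Subgroup G) (Q : Subgroup G) : Prop :=
  Q ∈ Cfsg.signalizerFamily p A θ ∧ IsPGroup q Q ∧
    ∀ R ∈ Cfsg.signalizerFamily p A θ, IsPGroup q R → Q ≤ R → R = Q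

omit [Fact p.Prime] [Fact q.Prime] in
theorem exists_maximalMember_ge {U : Subgroup G} (hU : U ∈ Cfsg.signalizerFamily p A θ)
    (hUq : IsPGroup q U) : ∃ R, U ≤ R ∧ IsMaximalMember p q A θ R := by
  obtain ⟨R, hUR, hR⟩ := (Set.toFinite {R : Subgroup G | R ∈ Cfsg.signalizerFamily p A θ ∧
    IsPGroup q R}).exists_le_maximal (a := U) ⟨hU, hUq⟩
  exact ⟨R, hUR, hR.1.1, hR.1.2, fun S hS hSq hle => le_antisymm (hR.2 ⟨hS, hSq⟩ hle) hle⟩

omit [Fact p.Prime] [Fact q.Prime] in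
theorem isMaximalMember_conj (hθ : Cfsg.IsSignalizerFunctor p A θ) {Q : Subgroup G}
    (hQ : IsMaximalMember p q A θ Q) {c : G} (hc : c ∈ Cfsg.signalizerInf A θ) :
    IsMaximalMember p q A θ (Q.map (MulAut.conj c).toMonoidHom) := by
  refine ⟨map_conj_mem_family hθ hQ.1 hc, hQ.2.1.map _, fun R hR hRq hle => ?_⟩
  have e : (MulAut.conj c⁻¹).toMonoidHom.comp (MulAut.conj c).toMonoidHom = MonoidHom.id G := by
    ext x; simp [mul_assoc]
  have e' : (MulAut.conj c).toMonoidHom.comp (MulAut.conj c⁻¹).toMonoidHom = MonoidHom.id G := by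
    ext x; simp [mul_assoc]
  have := hQ.2.2 _ (map_conj_mem_family hθ hR (inv_mem hc)) (hRq.map _)
    (by
      have := map_mono (f := (MulAut.conj c⁻¹).toMonoidHom) hle
      rwa [map_map, e, Subgroup.map_id] at this)
  rw [← this, map_map, e', Subgroup.map_id]

theorem map_conj_map_conj (Q : Subgroup G) (c d : G) :
    (Q.map (MulAut.conj c).toMonoidHom).map (MulAut.conj d).toMonoidHom =
      Q.map (MulAut.conj (d * c)).toMonoidHom := by
  rw [map_map]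
  congr 1
  ext x
  simp [mul_assoc]

omit [Finite G] [Fact q.Prime] in
theorem inf_centralizer_le_signalizerInf {H : Subgroup G} (hH : H ∈ Cfsg.signalizerFamily p A θ) :
    H ⊓ centralizer (A : Set G) ≤ Cfsg.signalizerInf A θ := fun c hc =>
  mem_signalizerInf.mpr fun a ha ha1 => hH.2.2.2 a ha ha1
    ⟨hc.1, centralizer_le (Set.singleton_subset_iff.mpr ha) hc.2⟩

/-- The conjugacy step inside one member of the family. -/
theorem exists_conj_sylow_in_member (hA : Cfsg.IsElementaryAbelian p A) {H U₁ U₂ : Subgroup G}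
    (hH : H ∈ Cfsg.signalizerFamily p A θ) (h₁ : U₁ ≤ H) (hq₁ : IsPGroup q U₁)
    (hA₁ : A ≤ normalizer (U₁ : Set G)) (h₂ : U₂ ≤ H) (hq₂ : IsPGroup q U₂)
    (hA₂ : A ≤ normalizer (U₂ : Set G)) :
    ∃ S : Subgroup G, S ∈ Cfsg.signalizerFamily p A θ ∧ IsPGroup q S ∧ U₁ ≤ S ∧
      ∃ c ∈ Cfsg.signalizerInf A θ, U₂ ≤ S.map (MulAut.conj c).toMonoidHom := by
  have hAH := family_le_normalizer hH
  have hcop := coprime_card_of_elab hA hH.2.1
  obtain ⟨P₁, hUP₁, hAP₁⟩ := CfsgLib.Coprime.exists_invariant_sylow_ge hAH hcop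
    (Or.inl (isSolvable_of_elab hA)) h₁ hq₁ hA₁
  obtain ⟨P₂, hUP₂, hAP₂⟩ := CfsgLib.Coprime.exists_invariant_sylow_ge hAH hcop
    (Or.inl (isSolvable_of_elab hA)) h₂ hq₂ hA₂
  obtain ⟨g, hg, hgeq⟩ := CfsgLib.Coprime.exists_conj_map_sylow P₁ P₂
  obtain ⟨c, hc, hceq⟩ := CfsgLib.Coprime.exists_conj_eq_of_invariant hAH hcop
    (Or.inl (isSolvable_of_elab hA)) hAP₁ hAP₂ hg hgeq
  exact ⟨_, mem_family_of_le hH (map_subtype_le _) hAP₁, P₁.2.map _, hUP₁, c,
    inf_centralizer_le_signalizerInf hH hc, hUP₂.trans hceq.ge⟩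

/-- The transitivity theorem. -/
theorem exists_conj_of_maximal (hA : Cfsg.IsElementaryAbelian p A) (hA3 : p ^ 3 ≤ Nat.card A)
    (hθ : Cfsg.IsSolvableSignalizerFunctor p A θ) {Q₁ Q₂ : Subgroup G}
    (h₁ : IsMaximalMember p q A θ Q₁) (h₂ : IsMaximalMember p q A θ Q₂) :
    ∃ c ∈ Cfsg.signalizerInf A θ, Q₁.map (MulAut.conj c).toMonoidHom = Q₂ := by
  suffices key : ∀ n : ℕ, ∀ Q₁ Q₂ : Subgroup G, IsMaximalMember p q A θ Q₁ →
      IsMaximalMember p q A θ Q₂ → Nat.card G - Nat.card ↥(Q₁ ⊓ Q₂) = n →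
      ∃ c ∈ Cfsg.signalizerInf A θ, Q₁.map (MulAut.conj c).toMonoidHom = Q₂ from
    key _ Q₁ Q₂ h₁ h₂ rfl
  intro n
  induction n using Nat.strongRecOn with
  | ind n ih =>
    intro Q₁ Q₂ h₁ h₂ hn
    by_cases heq : Q₁ = Q₂
    · refine ⟨1, one_mem _, ?_⟩
      rw [heq, map_one]
      exact Subgroup.map_id Q₂
    set D := Q₁ ⊓ Q₂ with hD
    have hne₁ : D ≠ Q₁ := fun h => heq (h₁.2.2 Q₂ h₂.1 h₂.2.1 (h ▸ inf_le_right)).symm
    have hne₂ : D ≠ Q₂ := fun h => heq (h₂.2.2 Q₁ h₁.1 h₁.2.1 (h ▸ inf_le_left))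
    have hA₁ := family_le_normalizer h₁.1
    have hA₂ := family_le_normalizer h₂.1
    have hAD : A ≤ normalizer (D : Set G) := (le_inf hA₁ hA₂).trans inf_normalizer_le_normalizer_inf
    by_cases hqp : q = p
    · exfalso
      subst hqp
      have : Q₁ = ⊥ := by
        by_contra hb
        obtain ⟨n, hn⟩ := h₁.2.1.exists_card_eq
        rcases Nat.eq_zero_or_pos n with rfl | hn0
        · exact hb (Subgroup.card_eq_one.mp (by simpa using hn))
        · exact h₁.1.2.1 (hn ▸ dvd_pow_self _ hn0.ne')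
      exact hne₁ (le_antisymm inf_le_left (this.le.trans bot_le))
    obtain ⟨a, ha, ha1, hn₁, hn₂⟩ := exists_common_normalizer_centralizer hA hA3 hqp h₁.2.1 h₂.2.1
      hA₁ hA₂ hAD inf_le_left inf_le_right hne₁ hne₂
    let X := θ a ⊓ normalizer (D : Set G)
    have hDmem : D ∈ Cfsg.signalizerFamily p A θ := mem_family_of_le h₁.1 inf_le_left hAD
    have hX : X ∈ Cfsg.signalizerFamily p A θ := mem_family_of_le (mem_family_theta hθ ha ha1)
      inf_le_left ((le_inf (family_le_normalizer (mem_family_theta hθ ha ha1))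
        (hAD.trans le_normalizer)).trans inf_normalizer_le_normalizer_inf)
    have hH : D ⊔ X ∈ Cfsg.signalizerFamily p A θ := mem_family_sup hA hDmem hX inf_le_right
    have hAH := family_le_normalizer hH
    obtain ⟨S, hSmem, hSq, hle₁, c, hc, hle₂⟩ := exists_conj_sylow_in_member hA hH
      (U₁ := Q₁ ⊓ (D ⊔ X)) (U₂ := Q₂ ⊓ (D ⊔ X)) inf_le_right (h₁.2.1.to_le inf_le_left)
      ((le_inf hA₁ hAH).trans inf_normalizer_le_normalizer_inf) inf_le_right
      (h₂.2.1.to_le inf_le_left) ((le_inf hA₂ hAH).trans inf_normalizer_le_normalizer_inf)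
    obtain ⟨R, hSR, hR⟩ := exists_maximalMember_ge hSmem hSq
    have step : ∀ {Q R' : Subgroup G}, IsMaximalMember p q A θ Q →
        IsMaximalMember p q A θ R' → D ≤ Q →
        ¬ normalizer (D : Set G) ⊓ Q ⊓ centralizer ({a} : Set G) ≤ D →
        Q ⊓ (D ⊔ X) ≤ R' → ∃ c ∈ Cfsg.signalizerInf A θ, Q.map (MulAut.conj c).toMonoidHom = R' := by
      intro Q R' hQ hR' hDQ hnle hle
      refine ih _ ?_ Q R' hQ hR' rfl
      have hlt : D < Q ⊓ R' := by
        refine lt_of_le_of_ne (le_inf hDQ ((le_inf hDQ le_sup_left).trans hle)) fun e => hnle ?_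
        intro x hx
        rw [e]
        exact ⟨hx.1.2, hle ⟨hx.1.2, mem_sup_right ⟨hQ.1.2.2.2 a ha ha1 ⟨hx.1.2, hx.2⟩, hx.1.1⟩⟩⟩
      have hcard : Nat.card D < Nat.card ↥(Q ⊓ R') := by
        refine lt_of_le_of_ne (Nat.le_of_dvd Nat.card_pos (card_dvd_of_le hlt.le)) fun e => ?_
        exact hlt.ne (eq_of_le_of_card_ge hlt.le e.ge)
      have : Nat.card ↥(Q ⊓ R') ≤ Nat.card G := Nat.le_of_dvd Nat.card_pos (card_subgroup_dvd_card _)
      omega
    obtain ⟨c₁, hc₁, e₁⟩ := step h₁ hR inf_le_left hn₁ (hle₁.trans hSR)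
    obtain ⟨c₂, hc₂, e₂⟩ := step h₂ (isMaximalMember_conj hθ.1 hR hc) inf_le_right hn₂
      (hle₂.trans (map_mono hSR))
    refine ⟨c₂⁻¹ * (c * c₁), mul_mem (inv_mem hc₂) (mul_mem hc hc₁), ?_⟩
    rw [← map_conj_map_conj, ← map_conj_map_conj, e₁, ← e₂, map_conj_map_conj, inv_mul_cancel,
      map_one]
    exact Subgroup.map_id Q₂

/-- A maximal `q`-member meets every member in a Sylow `q`-subgroup, up to conjugation. -/
theorem exists_sylow_map_eq_conj_inf (hA : Cfsg.IsElementaryAbelian p A)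
    (hA3 : p ^ 3 ≤ Nat.card A) (hθ : Cfsg.IsSolvableSignalizerFunctor p A θ) {Q : Subgroup G}
    (hQ : IsMaximalMember p q A θ Q) {H : Subgroup G} (hH : H ∈ Cfsg.signalizerFamily p A θ) :
    ∃ c ∈ Cfsg.signalizerInf A θ, ∃ S : Sylow q H,
      (S : Subgroup H).map H.subtype = Q.map (MulAut.conj c).toMonoidHom ⊓ H := by
  obtain ⟨P, hAP⟩ := CfsgLib.Coprime.exists_invariant_sylow (family_le_normalizer hH)
    (coprime_card_of_elab hA hH.2.1) (Or.inl (isSolvable_of_elab hA)) q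
  obtain ⟨R, hPR, hR⟩ := exists_maximalMember_ge (mem_family_of_le hH (map_subtype_le _) hAP)
    (P.2.map H.subtype)
  obtain ⟨c, hc, hce⟩ := exists_conj_of_maximal hA hA3 hθ hQ hR
  refine ⟨c, hc, P, le_antisymm (le_inf (hce ▸ hPR) (map_subtype_le _)) ?_⟩
  have hle : (P : Subgroup H) ≤ R.subgroupOf H := fun x hx => hPR (mem_map_of_mem _ hx)
  have h := P.is_maximal' ((hR.2.1.comap_of_injective H.subtype H.subtype_injective)) hle
  rw [hce, ← subgroupOf_map_subtype R H]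
  exact map_mono h.le

theorem exists_sylow_inf_centralizer (hA : Cfsg.IsElementaryAbelian p A)
    (hA3 : p ^ 3 ≤ Nat.card A) (hθ : Cfsg.IsSolvableSignalizerFunctor p A θ) {Q : Subgroup G}
    (hQ : IsMaximalMember p q A θ Q) {B : Subgroup G} (hBA : B ≤ A) (hB : B ≠ ⊥) :
    ∃ S : Sylow q (Cfsg.signalizerInf B θ),
      (S : Subgroup (Cfsg.signalizerInf B θ)).map (Cfsg.signalizerInf B θ).subtype =
        Q ⊓ centralizer (B : Set G) := by
  set H := Cfsg.signalizerInf B θ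
  obtain ⟨b, hb, hb1⟩ : ∃ b ∈ B, b ≠ 1 := by
    by_contra! h
    exact hB ((eq_bot_iff_forall B).mpr h)
  have hHC := signalizerInf_le_centralizer hθ.1 hBA
  have hAH : A ≤ normalizer (H : Set G) := le_normalizer_of_forall_conj fun a ha x hx =>
    mem_signalizerInf.mpr fun b hb hb1 =>
      hθ.1.2.2.1 b (hBA hb) hb1 a ha x (mem_signalizerInf.mp hx b hb hb1)
  have hH : H ∈ Cfsg.signalizerFamily p A θ := mem_family_of_le (mem_family_theta hθ (hBA hb) hb1)
    (fun x hx => mem_signalizerInf.mp hx b hb hb1) hAH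
  obtain ⟨c, hc, S, hS⟩ := exists_sylow_map_eq_conj_inf hA hA3 hθ hQ hH
  have hcH : c⁻¹ ∈ H := inv_mem (mem_signalizerInf.mpr fun b hb hb1 =>
    mem_signalizerInf.mp hc b (hBA hb) hb1)
  refine ⟨(⟨c⁻¹, hcH⟩ : H) • S, ?_⟩
  rw [Sylow.coe_subgroup_smul, CfsgLib.Coprime.map_subtype_conj_smul, hS]
  change (Q.map (MulAut.conj c).toMonoidHom ⊓ H).map (MulAut.conj c⁻¹).toMonoidHom = _
  rw [map_inf _ _ _ (MulAut.conj c⁻¹).injective, map_conj_map_conj, inv_mul_cancel, map_one,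
    show H.map (MulAut.conj c⁻¹).toMonoidHom = H from
      mem_normalizer_iff_map_conj_eq.mp (le_normalizer hcH)]
  refine le_antisymm (le_inf ((Subgroup.map_id Q).le.trans' inf_le_left)
    (inf_le_right.trans hHC)) (le_inf ((Subgroup.map_id Q).ge.trans' inf_le_left) ?_)
  exact fun x hx => mem_signalizerInf.mpr fun b hb hb1 => hQ.1.2.2.2 b (hBA hb) hb1
    ⟨hx.1, centralizer_le (Set.singleton_subset_iff.mpr hb) hx.2⟩

end CfsgLib.Transitivity
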