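import Cfsg.Agent.Transitivity.Basic
import Cfsg.Agent.Components.Balance
import Cfsg.Agent.Solvable.Basic
import Cfsg.Agent.S1285

/-!
# A signalizer functor inside a solvable `p'`-group

If all the values of an `A`-signalizer functor (`A` elementary abelian of rank at least three)
generate a solvable `p'`-group `L`, then `L ⊓ C(b) = θ b`: the functor is complete.

* `closure_inf_centralizer_le`, `isComplete_of_isSolvable_closure`
-/

namespace CfsgLib.Transitivity

open Subgroup

universe u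

variable {p : ℕ} [Fact p.Prime]

omit [Fact p.Prime] in
theorem le_signalizerClosure {G : Type u} [Group G] {A : Subgroup G} {θ : G → Subgroup G} {a : G}
    (ha : a ∈ A) (ha1 : a ≠ 1) : θ a ≤ Cfsg.signalizerClosure A θ :=
  le_iSup (fun a : {a : G // a ∈ A ∧ a ≠ 1} => θ (a : G)) ⟨a, ha, ha1⟩

omit [Fact p.Prime] in
theorem orbitProd_eq_pow {G : Type u} [Group G] {x l : G} (h : Commute x l) (k : ℕ) :
    Components.orbitProd x l k = l ^ k := by
  induction k with
  | zero => simp [Components.orbitProd]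
  | succ k ih =>
    rw [Components.orbitProd_succ, ih, (h.pow_left k).eq, mul_inv_cancel_right, pow_succ]

section Step

variable {G : Type u} [Group G] [Finite G] {A : Subgroup G} {θ : G → Subgroup G}

theorem le_of_forall_hyperplane (hA : Cfsg.IsElementaryAbelian p A) {N D : Subgroup G}
    (hAN : A ≤ normalizer (N : Set G)) (hN : ¬ p ∣ Nat.card N)
    (h : ∀ B ≤ A, Nat.card A ≤ p * Nat.card B → N ⊓ centralizer (B : Set G) ≤ D) : N ≤ D := by
  by_contra hND
  obtain ⟨B, hB, hc, hn⟩ := exists_hyperplane_not_le hA hAN hN hND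
  exact hn (h B hB hc)

theorem iSup_inf_normal (hA : Cfsg.IsElementaryAbelian p A) (hA3 : p ^ 3 ≤ Nat.card A)
    (hθ : Cfsg.IsSignalizerFunctor p A θ) (htop : Cfsg.signalizerClosure A θ ⊔ A = ⊤)
    (U : Subgroup G) [U.Normal] :
    (⨆ a : {a : G // a ∈ A ∧ a ≠ 1}, θ (a : G) ⊓ U).Normal := by
  set U₀ := ⨆ a : {a : G // a ∈ A ∧ a ≠ 1}, θ (a : G) ⊓ U
  have hinv : ∀ a : {a : G // a ∈ A ∧ a ≠ 1}, A ≤ normalizer ((θ (a : G) ⊓ U : Subgroup G) : Set G) :=
    fun a => (le_inf (le_normalizer_of_forall_conj (hθ.2.2.1 a a.2.1 a.2.2))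
      le_normalizer_of_normal).trans inf_normalizer_le_normalizer_inf
  refine normalizer_eq_top_iff.mp (top_unique ?_)
  rw [← htop, sup_le_iff]
  constructor
  · refine iSup_le fun c => le_of_forall_hyperplane hA
      (le_normalizer_of_forall_conj (hθ.2.2.1 c c.2.1 c.2.2)) (hθ.2.1 c c.2.1 c.2.2)
      fun B hB hc y hy => ?_
    rw [mem_normalizer_iff_map_conj_eq]
    refine eq_of_le_of_card_ge ?_ (card_map_of_injective (MulAut.conj y).injective).ge
    rw [map_le_iff_le_comap]
    refine iSup_le fun a => le_of_forall_hyperplane hA (hinv a)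
      (fun h => hθ.2.1 a a.2.1 a.2.2 (h.trans (card_dvd_of_le inf_le_left))) fun B' hB' hc' n hn => ?_
    obtain ⟨e, he, he', he1⟩ := exists_mem_inf_of_hyperplanes hA hA3 hB hB' hc hc'
    have hye : y ∈ θ e := hθ.2.2.2 c c.2.1 c.2.2 e (hB he) he1
      ⟨hy.1, centralizer_le (Set.singleton_subset_iff.mpr he) hy.2⟩
    have hne : n ∈ θ e := hθ.2.2.2 a a.2.1 a.2.2 e (hB he) he1
      ⟨hn.1.1, centralizer_le (Set.singleton_subset_iff.mpr he') hn.2⟩
    exact le_iSup (fun a : {a : G // a ∈ A ∧ a ≠ 1} => θ (a : G) ⊓ U) ⟨e, hB he, he1⟩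
      (mem_inf.mpr ⟨mul_mem (mul_mem hye hne) (inv_mem hye),
        (inferInstance : U.Normal).conj_mem n hn.1.2 y⟩)
  · intro b hb
    rw [mem_normalizer_iff_map_conj_eq, Subgroup.map_iSup]
    exact iSup_congr fun a => mem_normalizer_iff_map_conj_eq.mp (hinv a hb)

omit [Finite G] in
theorem orbitProd_mem {H : Subgroup G} {x l : G} (hl : ∀ i : ℕ, x ^ i * l * (x ^ i)⁻¹ ∈ H) (k : ℕ) :
    Components.orbitProd x l k ∈ H := by
  induction k with
  | zero => exact one_mem H
  | succ k ih => exact mul_mem ih (hl k)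

omit [Finite G] in
theorem inf_centralizer_le_of_eq_iSup (hA : Cfsg.IsElementaryAbelian p A)
    (hθ : Cfsg.IsSignalizerFunctor p A θ) {N : Subgroup G} [N.Normal]
    (hcomm : ∀ x ∈ N, ∀ y ∈ N, x * y = y * x) (hN : ¬ p ∣ Nat.card N)
    (h : N ≤ ⨆ a : {a : G // a ∈ A ∧ a ≠ 1}, θ (a : G) ⊓ N) {b : G} (hb : b ∈ A) (hb1 : b ≠ 1) :
    N ⊓ centralizer ({b} : Set G) ≤ θ b := by
  have hc : Components.OrbitCommutes N b p := fun i _ j _ _ a ha c hc =>
    hcomm _ ((inferInstance : N.Normal).conj_mem a ha _) _ ((inferInstance : N.Normal).conj_mem c hc _)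
  have hself : ∀ x ∈ N, Components.orbitProd b x p ∈ centralizer ({b} : Set G) := by
    obtain ⟨m, hm⟩ := Nat.exists_eq_succ_of_ne_zero (Fact.out : p.Prime).ne_zero
    intro x hx
    rw [mem_centralizer_singleton_iff]
    have hbp : b ^ p = 1 := hA.2 b hb
    subst hm
    exact (mul_inv_eq_iff_eq_mul.mp (Components.orbitProd_commute_self hc hbp hx)).symm
  let f : N →* G := MonoidHom.mk' (fun x => Components.orbitProd b (x : G) p) fun x y =>
    Components.orbitProd_mul hc x.2 y.2 le_rfl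
  have hgen : N ≤ ((θ b).comap f).map N.subtype := h.trans (iSup_le fun a x hx =>
    ⟨⟨x, hx.2⟩, hθ.2.2.2 a a.2.1 a.2.2 b hb hb1 ⟨orbitProd_mem (fun i =>
      hθ.2.2.1 a a.2.1 a.2.2 _ (pow_mem hb i) x hx.1) p, hself x hx.2⟩, rfl⟩)
  rintro x ⟨hxN, hxb⟩
  obtain ⟨y, hy, hye⟩ := hgen hxN
  have hyb : Components.orbitProd b (y : G) p ∈ θ b := hy
  rw [show (y : G) = x from hye,
    orbitProd_eq_pow (Commute.symm (mem_centralizer_singleton_iff.mp hxb))] at hyb
  obtain ⟨m, hm⟩ := exists_pow_eq_self_of_coprime (x := x) (n := p)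
    (((Fact.out : p.Prime).coprime_iff_not_dvd.mpr hN).coprime_dvd_right
      (Subgroup.orderOf_dvd_natCard N hxN))
  exact hm ▸ pow_mem hyb m

theorem map_le_theta_map (hA : Cfsg.IsElementaryAbelian p A) (hθ : Cfsg.IsSignalizerFunctor p A θ)
    {H : Type u} [Group H] (π : G →* H) {a b : G} (ha : a ∈ A) (ha1 : a ≠ 1) (hb : b ∈ A)
    (hb1 : b ≠ 1) : (θ a).map π ⊓ centralizer {π b} ≤ (θ b).map π := by
  have hzA : zpowers b ≤ A := zpowers_le.mpr hb
  have h1 := CfsgLib.Coprime.map_inf_centralizer π (A := zpowers b)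
    (G := θ a) (hzA.trans (le_normalizer_of_forall_conj (hθ.2.2.1 a ha ha1)))
    ((coprime_card_of_elab hA fun h =>
      hθ.2.1 a ha ha1 (h.trans (card_dvd_of_le inf_le_left))).coprime_dvd_left (card_dvd_of_le hzA))
    (Or.inl (CfsgLib.Components.isSolvable_mono (isSolvable_of_elab hA) hzA))
  rw [MonoidHom.map_zpowers, ← centralizer_singleton_eq, ← centralizer_singleton_eq] at h1
  exact h1.ge.trans (map_mono (hθ.2.2.2 a ha ha1 b hb hb1))

theorem eq_of_mk'_eq (hA : Cfsg.IsElementaryAbelian p A) {N : Subgroup G} [N.Normal]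
    (hN : ¬ p ∣ Nat.card N) {a c : G} (ha : a ∈ A) (hc : c ∈ A)
    (h : QuotientGroup.mk' N a = QuotientGroup.mk' N c) : a = c :=
  inv_mul_eq_one.mp (orderOf_eq_one_iff.mp (Nat.eq_one_of_dvd_coprimes
    ((Fact.out : p.Prime).coprime_iff_not_dvd.mpr hN)
    (orderOf_dvd_of_pow_eq_one (hA.2 _ (mul_mem (inv_mem ha) hc)))
    (Subgroup.orderOf_dvd_natCard N (QuotientGroup.eq.mp h))))

omit [Finite G] [Fact p.Prime] in
theorem isElementaryAbelian_map (hA : Cfsg.IsElementaryAbelian p A) {H : Type u} [Group H]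
    (π : G →* H) : Cfsg.IsElementaryAbelian p (A.map π) := by
  have := hA.1
  refine ⟨inferInstance, ?_⟩
  rintro _ ⟨a, ha, rfl⟩
  rw [← map_pow, hA.2 a ha, map_one]

theorem card_map_mk' (hA : Cfsg.IsElementaryAbelian p A) {N : Subgroup G} [N.Normal]
    (hN : ¬ p ∣ Nat.card N) : Nat.card (A.map (QuotientGroup.mk' N)) = Nat.card A := by
  refine (Nat.card_congr (Equiv.ofBijective
    (fun a : A => (⟨QuotientGroup.mk' N a, mem_map_of_mem _ a.2⟩ : A.map (QuotientGroup.mk' N)))
    ⟨fun a c h => Subtype.ext (eq_of_mk'_eq hA hN a.2 c.2 (congrArg Subtype.val h)), ?_⟩)).symm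
  rintro ⟨_, a, ha, rfl⟩
  exact ⟨⟨a, ha⟩, rfl⟩

omit [Finite G] [Fact p.Prime] in
theorem closure_le_normalizer (hθ : Cfsg.IsSignalizerFunctor p A θ) :
    A ≤ normalizer (Cfsg.signalizerClosure A θ : Set G) := by
  intro b hb
  rw [mem_normalizer_iff_map_conj_eq, Cfsg.signalizerClosure, Subgroup.map_iSup]
  exact iSup_congr fun a => mem_normalizer_iff_map_conj_eq.mp
    (le_normalizer_of_forall_conj (hθ.2.2.1 a a.2.1 a.2.2) hb)

end Step

theorem closure_inf_centralizer_le_aux (n : ℕ) :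
    ∀ (G : Type u) [Group G] [Finite G] (A : Subgroup G) (θ : G → Subgroup G),
      Cfsg.IsElementaryAbelian p A → p ^ 3 ≤ Nat.card A → Cfsg.IsSignalizerFunctor p A θ →
      Group.IsSolvable ↥(Cfsg.signalizerClosure A θ) →
      ¬ p ∣ Nat.card ↥(Cfsg.signalizerClosure A θ) →
      Nat.card ↥(Cfsg.signalizerClosure A θ) = n →
      ∀ b ∈ A, b ≠ 1 → Cfsg.signalizerClosure A θ ⊓ centralizer ({b} : Set G) ≤ θ b := by
  induction n using Nat.strongRecOn with
  | ind n ih =>
  have key : ∀ (G : Type u) [Group G] [Finite G] (A : Subgroup G) (θ : G → Subgroup G),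
      Cfsg.IsElementaryAbelian p A → p ^ 3 ≤ Nat.card A → Cfsg.IsSignalizerFunctor p A θ →
      Group.IsSolvable ↥(Cfsg.signalizerClosure A θ) →
      ¬ p ∣ Nat.card ↥(Cfsg.signalizerClosure A θ) →
      Nat.card ↥(Cfsg.signalizerClosure A θ) = n → Cfsg.signalizerClosure A θ ⊔ A = ⊤ →
      ∀ b ∈ A, b ≠ 1 → Cfsg.signalizerClosure A θ ⊓ centralizer ({b} : Set G) ≤ θ b := by
    intro G _ _ A θ hA hA3 hθ hsolv hp hn htop
    set L := Cfsg.signalizerClosure A θ with hL
    have hAL : A ≤ normalizer (L : Set G) := closure_le_normalizer hθ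
    have hLn : L.Normal := normalizer_eq_top_iff.mp
      (top_unique (htop ▸ sup_le le_normalizer hAL))
    by_cases hbot : L = ⊥
    · intro b _ _ x hx
      rw [hbot, bot_inf_eq, mem_bot] at hx
      exact hx ▸ one_mem _
    have := hA.1
    have hncyc : ¬ IsCyclic A := not_isCyclic_of_elab hA
      ((Nat.pow_le_pow_right (Fact.out : p.Prime).pos (by norm_num)).trans hA3)
    -- the quotient by a minimal normal subgroup inside `L`
    have hquot : ∀ N : Subgroup G, ∀ _ : N.Normal, N ≠ ⊥ → N ≤ L → ∀ b ∈ A, b ≠ 1 →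
        L.map (QuotientGroup.mk' N) ⊓ centralizer {QuotientGroup.mk' N b} ≤
          (θ b).map (QuotientGroup.mk' N) := by
      intro N _ hNne hNL b hb hb1
      set π := QuotientGroup.mk' N
      have hpN : ¬ p ∣ Nat.card N := fun h => hp (h.trans (card_dvd_of_le hNL))
      have hinj : ∀ a ∈ A, ∀ c ∈ A, π a = π c → a = c := fun a ha c hc =>
        eq_of_mk'_eq hA hpN ha hc
      have hne : ∀ a ∈ A, a ≠ 1 → π a ≠ 1 := fun a ha ha1 h =>
        ha1 (hinj a ha 1 (one_mem A) (h.trans (map_one π).symm))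
      let θb : G ⧸ N → Subgroup (G ⧸ N) := fun x =>
        ⨆ a : {a : G // a ∈ A ∧ a ≠ 1 ∧ π a = x}, (θ (a : G)).map π
      have hθb : ∀ a ∈ A, a ≠ 1 → θb (π a) = (θ a).map π := by
        intro a ha ha1
        refine le_antisymm (iSup_le fun c => ?_)
          (le_iSup (fun c : {c : G // c ∈ A ∧ c ≠ 1 ∧ π c = π a} => (θ (c : G)).map π)
            ⟨a, ha, ha1, rfl⟩)
        rw [hinj c c.2.1 a ha c.2.2.2]
      have hA' := isElementaryAbelian_map hA π
      have hcardA : Nat.card (A.map π) = Nat.card A := card_map_mk' hA hpN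
      have hne' : ∀ {a : G}, π a ≠ 1 → a ≠ 1 := fun h h' => h (h' ▸ map_one π)
      have hθ' : Cfsg.IsSignalizerFunctor p (A.map π) θb := by
        refine ⟨?_, ?_, ?_, ?_⟩
        · rintro _ ⟨a, ha, rfl⟩ ha1
          rw [hθb a ha (hne' ha1)]
          rintro _ ⟨z, hz, rfl⟩
          rw [mem_centralizer_singleton_iff, ← map_mul, ← map_mul,
            mem_centralizer_singleton_iff.mp (hθ.1 a ha (hne' ha1) hz)]
        · rintro _ ⟨a, ha, rfl⟩ ha1
          rw [hθb a ha (hne' ha1)]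
          exact fun h => hθ.2.1 a ha (hne' ha1) (h.trans (card_map_dvd _ _))
        · rintro _ ⟨a, ha, rfl⟩ ha1 _ ⟨c, hc, rfl⟩
          rw [hθb a ha (hne' ha1)]
          rintro _ ⟨z, hz, rfl⟩
          exact ⟨_, hθ.2.2.1 a ha (hne' ha1) c hc z hz, by simp⟩
        · rintro _ ⟨a, ha, rfl⟩ ha1 _ ⟨c, hc, rfl⟩ hc1
          rw [hθb a ha (hne' ha1), hθb c hc (hne' hc1)]
          exact map_le_theta_map hA hθ π ha (hne' ha1) hc (hne' hc1)
      have hclo : Cfsg.signalizerClosure (A.map π) θb = L.map π := by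
        refine le_antisymm (iSup_le ?_) ?_
        · rintro ⟨_, ⟨a, ha, rfl⟩, ha1⟩
          rw [hθb a ha (hne' ha1)]
          exact map_mono (le_signalizerClosure ha (hne' ha1))
        · rw [hL, Cfsg.signalizerClosure, Subgroup.map_iSup]
          refine iSup_le fun a => ?_
          rw [← hθb a a.2.1 a.2.2]
          exact le_signalizerClosure (mem_map_of_mem π a.2.1) (hne a a.2.1 a.2.2)
      have hlt : Nat.card (L.map π) < n := by
        rw [← hn]
        refine lt_of_le_of_ne (Nat.le_of_dvd Nat.card_pos (card_map_dvd _ _)) fun he => hNne ?_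
        rw [eq_bot_iff]
        intro z hz
        have hsurj : Function.Surjective (π.subgroupMap L) := MonoidHom.subgroupMap_surjective π L
        have hb := (Nat.bijective_iff_surjective_and_card (π.subgroupMap L)).mpr ⟨hsurj, he.symm⟩
        exact congrArg Subtype.val (hb.1 (a₁ := ⟨z, hNL hz⟩) (a₂ := 1) (Subtype.ext (by
          show π z = π 1
          rw [map_one]
          exact (QuotientGroup.eq_one_iff z).mpr hz)))
      rw [← hclo, ← hθb b hb hb1]
      exact ih _ hlt (G ⧸ N) (A.map π) θb hA' (hcardA ▸ hA3) hθ'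
        (hclo ▸ Components.isSolvable_map π hsolv)
        (hclo ▸ fun h => hp (h.trans (card_map_dvd _ _))) (by rw [hclo]) _ (mem_map_of_mem π hb)
        (hne b hb hb1)
    by_cases hcase : ∃ N : Subgroup G, N.Normal ∧ N ≠ ⊥ ∧ N ≤ L ∧
        (∀ M : Subgroup G, M.Normal → M ≤ N → M = ⊥ ∨ M = N) ∧ ∃ a ∈ A, a ≠ 1 ∧ θ a ⊓ N ≠ ⊥
    · obtain ⟨N, hNn, hNne, hNL, hmin, a, ha, ha1, hne⟩ := hcase
      have hgen : N ≤ ⨆ a : {a : G // a ∈ A ∧ a ≠ 1}, θ (a : G) ⊓ N := by
        rcases hmin _ (iSup_inf_normal hA hA3 hθ htop N) (iSup_le fun _ => inf_le_right) with h | h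
        · exact absurd (le_bot_iff.mp ((le_iSup (fun a : {a : G // a ∈ A ∧ a ≠ 1} => θ (a : G) ⊓ N)
            ⟨a, ha, ha1⟩).trans h.le)) hne
        · exact h.ge
      have := Components.isSolvable_mono hsolv hNL
      intro b hb hb1 x hx
      obtain ⟨y, hy, hyx⟩ := hquot N hNn hNne hNL b hb hb1
        (mem_inf.mpr ⟨mem_map_of_mem (QuotientGroup.mk' N) hx.1, by
          rw [mem_centralizer_singleton_iff, ← map_mul, ← map_mul,
            mem_centralizer_singleton_iff.mp hx.2]⟩)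
      have hmem : y⁻¹ * x ∈ N ⊓ centralizer ({b} : Set G) :=
        mem_inf.mpr ⟨QuotientGroup.eq.mp hyx, mul_mem (inv_mem (hθ.1 b hb hb1 hy)) hx.2⟩
      have h2 := mul_mem hy (inf_centralizer_le_of_eq_iSup hA hθ
        (Solvable.mul_comm_of_minimal_normal hNne hmin)
        (fun h => hp (h.trans (card_dvd_of_le hNL))) hgen hb hb1 hmem)
      rwa [mul_inv_cancel_left] at h2
    · exfalso
      push Not at hcase
      obtain ⟨N, hNn, hNne, hNL, hmin⟩ := Solvable.exists_minimal_normal_le hLn hbot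
      set π := QuotientGroup.mk' N
      have hLbar : L.map π ≠ ⊥ := by
        intro h
        rw [Subgroup.map_eq_bot_iff, QuotientGroup.ker_mk'] at h
        refine hbot (eq_bot_iff.mpr (iSup_le fun a => ?_))
        rw [← hcase N hNn hNne hNL hmin a a.2.1 a.2.2]
        exact le_inf le_rfl ((le_signalizerClosure a.2.1 a.2.2).trans h)
      obtain ⟨M, hMn, hMne, hML, hMmin⟩ := Solvable.exists_minimal_normal_le
        (hLn.map π (QuotientGroup.mk'_surjective N)) hLbar
      have := Components.isSolvable_mono (Components.isSolvable_map π hsolv) hML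
      obtain ⟨r, hr, hMr⟩ := Solvable.exists_isPGroup_of_minimal_normal hMne hMmin
      have := Fact.mk hr
      set U := M.comap π
      have hUn : U.Normal := hMn.comap π
      have hUL : U ≤ L := by
        refine (comap_mono hML).trans ?_
        rw [comap_map_eq, QuotientGroup.ker_mk']
        exact sup_le le_rfl hNL
      have hφ : Cfsg.IsSolvableSignalizerFunctor p A fun a => θ a ⊓ U :=
        ⟨⟨fun a ha ha1 => inf_le_left.trans (hθ.1 a ha ha1),
          fun a ha ha1 h => hθ.2.1 a ha ha1 (h.trans (card_dvd_of_le inf_le_left)),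
          fun a ha ha1 c hc z hz => ⟨hθ.2.2.1 a ha ha1 c hc z hz.1, hUn.conj_mem z hz.2 c⟩,
          fun a ha ha1 c hc hc1 z hz => ⟨hθ.2.2.2 a ha ha1 c hc hc1 ⟨hz.1.1, hz.2⟩, hz.1.2⟩⟩,
          fun a _ _ => Components.isSolvable_mono hsolv (inf_le_right.trans hUL)⟩
      have hφr : ∀ a ∈ A, a ≠ 1 → IsPGroup r ↥(θ a ⊓ U) := by
        intro a ha ha1
        let g : ↥(θ a ⊓ U) →* M := (π.comp (θ a ⊓ U).subtype).codRestrict M fun z => z.2.2
        refine hMr.of_injective g ((injective_iff_map_eq_one g).mpr fun z hz => Subtype.ext ?_)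
        have hzN : (z : G) ∈ θ a ⊓ N :=
          ⟨z.2.1, (QuotientGroup.eq_one_iff (z : G)).mp (congrArg Subtype.val hz)⟩
        rw [hcase N hNn hNne hNL hmin a ha ha1] at hzN
        exact hzN
      obtain ⟨-, X, hXinv, -, hX⟩ := Cfsg.Agent.S1285.result p A hA hA3 _ hφ r hφr
      set U₀ := ⨆ a : {a : G // a ∈ A ∧ a ≠ 1}, θ (a : G) ⊓ U
      have hU₀X : U₀ ≤ X := iSup_le fun a => (hX a a.2.1 a.2.2).ge.trans inf_le_left
      have hU₀ : U₀ ≠ ⊥ := by
        intro h
        refine hMne (le_bot_iff.mp (CfsgLib.Coprime.le_of_forall_inf_centralizer_le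
          (G := M) (A := A.map π) ?_ le_normalizer_of_normal ?_ ?_))
        · exact not_isCyclic_of_elab (isElementaryAbelian_map hA π)
            ((card_map_mk' hA fun h => hp (h.trans (card_dvd_of_le hNL))).symm ▸
              (Nat.pow_le_pow_right (Fact.out : p.Prime).pos (by norm_num)).trans hA3)
        · exact coprime_card_of_elab (isElementaryAbelian_map hA π) fun h =>
            hp (h.trans ((card_dvd_of_le hML).trans (card_map_dvd _ _)))
        · intro c hc hc1 z hz
          obtain ⟨b, hb, rfl⟩ := hc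
          have hb1 : b ≠ 1 := fun h' => hc1 (h' ▸ map_one π)
          obtain ⟨y, hy, rfl⟩ := hquot N hNn hNne hNL b hb hb1 ⟨hML hz.1, hz.2⟩
          have : y ∈ U₀ := le_iSup (fun a : {a : G // a ∈ A ∧ a ≠ 1} => θ (a : G) ⊓ U) ⟨b, hb, hb1⟩
            ⟨hy, hz.1⟩
          rw [h, mem_bot] at this
          rw [this, map_one]
          exact one_mem _
      obtain ⟨N', hN'n, hN'ne, hN'le, hmin'⟩ := Solvable.exists_minimal_normal_le
        (iSup_inf_normal hA hA3 hθ htop U) hU₀
      have hN'L : N' ≤ L := hN'le.trans ((iSup_le fun a => inf_le_right).trans hUL)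
      refine hN'ne (le_bot_iff.mp (CfsgLib.Coprime.le_of_forall_inf_centralizer_le hncyc
        le_normalizer_of_normal (coprime_card_of_elab hA fun h => hp (h.trans (card_dvd_of_le hN'L)))
        fun b hb hb1 => ?_))
      rw [← hcase N' hN'n hN'ne hN'L hmin' b hb hb1]
      exact le_inf ((inf_le_inf_right _ (hN'le.trans hU₀X)).trans ((hX b hb hb1).le.trans inf_le_left))
        inf_le_left
  intro G _ _ A θ hA hA3 hθ hsolv hp hn b hb hb1 x hx
  set L := Cfsg.signalizerClosure A θ with hL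
  set G' := L ⊔ A
  have hAG : A ≤ G' := le_sup_right
  let θ' : G' → Subgroup G' := fun x => (θ (x : G)).subgroupOf G'
  have hLeq : Cfsg.signalizerClosure (A.subgroupOf G') θ' = L.subgroupOf G' := by
    refine le_antisymm (iSup_le fun a => comap_mono (le_signalizerClosure (mem_subgroupOf.mp a.2.1)
      fun h => a.2.2 (Subtype.ext h))) ?_
    rw [← map_subtype_le_map_subtype, map_subgroupOf_eq_of_le le_sup_left]
    refine iSup_le fun a => ?_
    refine le_trans ?_ (map_mono (le_signalizerClosure (θ := θ')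
      (show (⟨(a : G), hAG a.2.1⟩ : G') ∈ A.subgroupOf G' from a.2.1)
      fun h => a.2.2 (congrArg Subtype.val h)))
    exact (map_subgroupOf_eq_of_le ((le_signalizerClosure a.2.1 a.2.2).trans le_sup_left)).ge
  have hA' : Cfsg.IsElementaryAbelian p (A.subgroupOf G') :=
    ⟨⟨⟨fun a c => Subtype.ext (Subtype.ext (congrArg Subtype.val
      (hA.1.is_comm.comm (⟨_, a.2⟩ : A) ⟨_, c.2⟩) :))⟩⟩,
      fun a ha => Subtype.ext (hA.2 a ha)⟩
  have hcardA : Nat.card (A.subgroupOf G') = Nat.card A :=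
    Nat.card_congr (subgroupOfEquivOfLe hAG).toEquiv
  have hθ' : Cfsg.IsSignalizerFunctor p (A.subgroupOf G') θ' := by
    have ne : ∀ {a : G'}, a ≠ 1 → (a : G) ≠ 1 := fun h h' => h (Subtype.ext h')
    refine ⟨fun a ha ha1 z hz => mem_centralizer_singleton_iff.mpr (Subtype.ext
      (mem_centralizer_singleton_iff.mp (hθ.1 a ha (ne ha1) hz))), fun a ha ha1 hd => ?_,
      fun a ha ha1 c hc z hz => hθ.2.2.1 a ha (ne ha1) c hc z hz,
      fun a ha ha1 c hc hc1 z hz => hθ.2.2.2 a ha (ne ha1) c hc (ne hc1)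
        ⟨hz.1, mem_centralizer_singleton_iff.mpr
          (congrArg Subtype.val (mem_centralizer_singleton_iff.mp hz.2))⟩⟩
    rw [Nat.card_congr (subgroupOfEquivOfLe
      ((le_signalizerClosure (show (a : G) ∈ A from ha) (ne ha1)).trans le_sup_left)).toEquiv] at hd
    exact hθ.2.1 a ha (ne ha1) hd
  have hcardL : Nat.card (Cfsg.signalizerClosure (A.subgroupOf G') θ') = Nat.card L := by
    rw [hLeq]
    exact Nat.card_congr (subgroupOfEquivOfLe le_sup_left).toEquiv
  have htop : Cfsg.signalizerClosure (A.subgroupOf G') θ' ⊔ A.subgroupOf G' = ⊤ := by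
    rw [hLeq, ← subgroupOf_sup le_sup_left le_sup_right, subgroupOf_self]
  refine key G' (A.subgroupOf G') θ' hA' (hcardA ▸ hA3) hθ' ?_ (hcardL ▸ hp) (hcardL ▸ hn) htop
    ⟨b, hAG hb⟩ hb (fun h => hb1 (congrArg Subtype.val h))
    (show (⟨x, le_sup_left (a := L) (b := A) hx.1⟩ : G') ∈ _ from ⟨?_, ?_⟩)
  · rw [hLeq]
    exact Group.isSolvable_of_surjective (f := (subgroupOfEquivOfLe le_sup_left).symm.toMonoidHom) (MulEquiv.surjective _)
  · rw [hLeq]; exact hx.1
  · exact mem_centralizer_singleton_iff.mpr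
      (Subtype.ext (mem_centralizer_singleton_iff.mp hx.2))

/-- The values of a signalizer functor generating a solvable `p'`-group `L` are `L ⊓ C(b)`. -/
theorem closure_inf_centralizer_le {G : Type u} [Group G] [Finite G] {A : Subgroup G}
    {θ : G → Subgroup G} (hA : Cfsg.IsElementaryAbelian p A) (hA3 : p ^ 3 ≤ Nat.card A)
    (hθ : Cfsg.IsSignalizerFunctor p A θ)
    (hsolv : Group.IsSolvable ↥(Cfsg.signalizerClosure A θ))
    (hp : ¬ p ∣ Nat.card ↥(Cfsg.signalizerClosure A θ)) :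
    ∀ b ∈ A, b ≠ 1 → Cfsg.signalizerClosure A θ ⊓ centralizer ({b} : Set G) ≤ θ b :=
  closure_inf_centralizer_le_aux _ G A θ hA hA3 hθ hsolv hp rfl

theorem isComplete_of_isSolvable_closure {G : Type u} [Group G] [Finite G] {A : Subgroup G}
    {θ : G → Subgroup G} (hA : Cfsg.IsElementaryAbelian p A) (hA3 : p ^ 3 ≤ Nat.card A)
    (hθ : Cfsg.IsSignalizerFunctor p A θ)
    (hsolv : Group.IsSolvable ↥(Cfsg.signalizerClosure A θ))
    (hp : ¬ p ∣ Nat.card ↥(Cfsg.signalizerClosure A θ)) :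
    Cfsg.IsCompleteSignalizerFunctor p A θ :=
  ⟨hθ, Cfsg.signalizerClosure A θ, conj_mem_of_le_normalizer (closure_le_normalizer hθ), hp,
    fun a ha ha1 => le_antisymm (closure_inf_centralizer_le hA hA3 hθ hsolv hp a ha ha1)
      (le_inf (le_signalizerClosure ha ha1) (hθ.1 a ha ha1))⟩

end CfsgLib.Transitivity
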